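import Cfsg.Agent.Omega.NSix.HTwo.StepC
import Cfsg.Agent.Omega.NSix.NoBlk.Main
import Cfsg.Agent.Omega.FFBr.Final

/-!
# OMEGA N6, (H2) by #18920 (helper605): the input `bl` of (5)  (helper840)

`bl` : `J(S) ≤ O₂(P)`: the minimal parabolics `R` over `T₁ = C_S(r_ij)` in `C_G(r_ij)` with `J(S) ≰ O₂(R)` centralise
`Ω₁Z(T₁) ∋ z_0` (THEOREM BL*, helper107).
-/

set_option autoImplicit false
set_option linter.unusedSectionVars false

namespace Cfsg.Agent.Omega.NSix.HT.Bl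

open Subgroup Cfsg Cfsg.Agent.Omega.MinPar
open Cfsg.Agent.ZN (o2 zc zl jj)
open Cfsg.Agent.ZN.ChoiceSit (Syl)
open Cfsg.Agent.MinSimple.VModule (o2_le o2_isPGroup le_normalizer_o2 le_o2 mem_zc oddGen)
open Cfsg.Agent.Omega.S5.Def Cfsg.Agent.Omega.S5.Syl
open Cfsg.Agent.Omega.NSix.Base Cfsg.Agent.Omega.NSix.Basic Cfsg.Agent.Omega.NSix.Engine
open Cfsg.Agent.Omega.NSix.HTwo.LemTwo (XX In)
open Cfsg.Agent.Omega.NSix.HTwo.Main (Pos)
open Cfsg.Agent.MinSimple.MinParabolic (IsMinPar)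

universe u

variable {G : Type u} [Group G] [Finite G] {S : Sylow 2 G} {P : Subgroup G} {m : ℕ}
  {ε : (Fin (2 ^ m + 1) → ZMod 2) → G} {i j : Fin (2 ^ m + 1)}

/-- `z_0 ∈ Ω₁Z(T)` for `O₂(P) ≤ T ≤ S`, `T` over `V` -/
theorem zz_zero_mem (h : Pos S P ε) {T : Subgroup G} (hT : T ≤ (S : Subgroup G))
    (hV : zl (S : Subgroup G) P ≤ T) : zz ε 0 ∈ zc T := by
  refine mem_zc.2 ⟨hV (zz_mem h.hyp.ev 0), fun t ht => ?_, by rw [pow_two]; exact zz_sq h.hyp.ev 0⟩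
  obtain ⟨σ, hσ⟩ := h.hyp.ev.perm t (h.par.le (hT ht))
  have h1 := zz_conj hσ 0
  rw [h.fix0 t (hT ht) σ hσ] at h1
  exact mul_inv_eq_iff_eq_mul.1 h1

/-- **`bl`** of `Five.five` -/
theorem bl (h : Pos S P ε) (hI : In S (zl (S : Subgroup G) P) P ε i j) :
    jj (S : Subgroup G) ≤ o2 P → ∀ R : Subgroup G, IsMinPar ((S : Subgroup G) ⊓ NN ε i j) R →
      R ≤ NN ε i j → ¬ jj (S : Subgroup G) ≤ o2 R → R ≤ centralizer ({zz ε 0} : Set G) := by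
  intro hJ R hR hRN hJR
  set T := (S : Subgroup G) ⊓ NN ε i j with hTdef
  have hO : OmegaOne.Hyp (zl (S : Subgroup G) P) P S ε := by
    refine ⟨h.hyp.ev, h.par.le, MinSimple.VModule.zc_le_zl _ _, h.hyp.pair, h.hyp.le, ?_⟩
    obtain ⟨a, b, hab, g, hg, -, hgV⟩ := h.hyp.mov
    exact ⟨a, b, hab, g, hg, hgV⟩
  have D := NoBlk.Main.dat_par h.c2 h.par h.hyp.ev (OmegaOne.zc_o2_par h.c2 h.hyp.n5 h.par hO) hJ
  have hV : zl (S : Subgroup G) P ≤ zc (o2 P) := h.par.isLoc.zl_le S h.c2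
  have hinf := h.par.inf_centralizer S h.c2
  have hQT : o2 P ≤ T := by
    intro q hq
    have h1 : q ∈ (S : Subgroup G) ⊓ centralizer (zl (S : Subgroup G) P : Set G) := by rw [hinf]; exact hq
    exact ⟨h1.1, mem_NN.2 (mem_centralizer_iff.1 h1.2 _ (rr_mem h.hyp.ev i j)).symm⟩
  have hVT : zl (S : Subgroup G) P ≤ T := (hV.trans (MinSimple.VModule.zc_le _)).trans hQT
  have hT : Syl T R := by
    obtain ⟨h1, h2, h3⟩ := hI.syl
    exact ⟨hR.le, h2, fun Q hQR hQ hTQ => h3 Q (hQR.trans hRN) hQ hTQ⟩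
  have hcN : NN ε i j ⊓ centralizer (o2 (NN ε i j) : Set G) ≤ o2 (NN ε i j) :=
    MinSimple.Basic.char2_centralizer h.c2 (by rw [pow_two]; exact rr_sq hI.hyp.ev i j)
      (rr_ne_one hI.hyp.ev hI.three hI.ij)
  have hc : R ⊓ centralizer (o2 R : Set G) ≤ o2 R := HTwo.StepFour.char2_of hcN hRN (hI.o2_le_T.trans hR.le)
  have h1 := NoBlk.Main.cen_zc FFBr.ffthm D (by have := h.m3; omega) hQT hT hR hc (rr_mem h.hyp.ev i j)
    (rr_ne_one hI.hyp.ev hI.three hI.ij) hRN hJR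
  have h0 := zz_zero_mem h (T := T) inf_le_left hVT
  have h2 : oddGen R ≤ centralizer ({zz ε 0} : Set G) := fun x hx =>
    mem_centralizer_singleton_iff.2 (mem_centralizer_iff.1 (h1 h0) x hx)
  have h3 : T ≤ centralizer ({zz ε 0} : Set G) := fun x hx =>
    mem_centralizer_singleton_iff.2 ((mem_zc.1 h0).2.1 x hx)
  rw [← TTn.DiCoreAbs.oddGen_sup hR.le (ZN.ChoiceSit.syl_not_dvd hT)]
  exact sup_le h2 h3

end Cfsg.Agent.Omega.NSix.HT.Bl
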