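import Cfsg.Agent.Omega.NSix.HT.Key
import Cfsg.Agent.Omega.NSix.HT.Four
import Cfsg.Agent.Omega.NSix.CaseJ.Eight

/-!
# OMEGA N6, #18920 (helper605): (3) plugged into (4) and (5)  (helper537)

* `key4 : Four.Key V ε i j` : (3) in the form of 605's (4);
* `ki` : the setting of (3) for `D = ⟨r_ij⟩`, `T = T₁`;
* `five` : (5) with (3) and 628's `Eight.cent` plugged; `bl` (107's THEOREM BL*) and `off` are left.
-/

set_option autoImplicit false
set_option linter.unusedSectionVars false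

namespace Cfsg.Agent.Omega.NSix.HT.FivePlug

open Subgroup Cfsg Cfsg.Agent.Omega.MinPar
open Cfsg.Agent.ZN (o2 zc zl jj zj)
open Cfsg.Agent.ZN.ChoiceSit (Syl)
open Cfsg.Agent.MinSimple.VModule (o2_le o2_isPGroup le_normalizer_o2 le_o2 mem_zc)
open Cfsg.Agent.Omega.S5.Def Cfsg.Agent.Omega.S5.Syl Cfsg.Agent.Omega.S5.Pair
open Cfsg.Agent.Omega.FFThm (Off)
open Cfsg.Agent.Omega.NSix.Base Cfsg.Agent.Omega.NSix.Basic Cfsg.Agent.Omega.NSix.Engine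
open Cfsg.Agent.Omega.NSix.CosetAct (V0 mem_V0)
open Cfsg.Agent.Omega.NSix.HTwo.LemTwo (In XX mem_XX KK_le_NN KK_eq V0_le_UU)
open Cfsg.Agent.Omega.NSix.HT.Five (Q0 fix_of_acts mv_iff)
open Cfsg.Agent.Omega.NSix.HT.Key (Ki)
open Cfsg.Agent.MinSimple.MinParabolic (IsMinPar)

universe u

section

variable {G : Type u} [Group G] [Finite G] {m : ℕ} {S : Sylow 2 G} {V P : Subgroup G}
  {ε : (Fin (2 ^ m + 1) → ZMod 2) → G} {i j : Fin (2 ^ m + 1)}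

/-- **(3) for (4)** -/
theorem key4 (h : In S V P ε i j) : Four.Key V ε i j := by
  intro D T R hD0 hr hT hR hRD hmv hcomm
  have hDV : D ≤ V := hD0.trans (HTwo.LemTwo.V0_le h.hyp)
  have hXT : XX ε i j ≤ T := XX_le_syl h hDV hT
  have hTs : Syl T (centralizer (D : Set G)) := syl_D h hDV hr hT
  have hRN : R ≤ NN ε i j := hRD.trans (centralizer_le_NN h hr)
  have hcomm' : ∀ g ∈ R, ∀ v ∈ V, ∀ w ∈ V, g * v * g⁻¹ * w = w * (g * v * g⁻¹) := by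
    intro g hg v hv w hw
    have := hcomm g hg 1 (one_mem _) v hv w hw
    rwa [one_mul, inv_one, mul_one] at this
  obtain ⟨⟨t, ht, htK⟩, h2, h3⟩ := Key.key h.hyp h.ij h.evL h.cut hr (hD0.trans V0_le_UU)
    (hT.1.trans inf_le_right) hXT hTs hR hRD ((mv_iff hRN).2 hmv) hcomm'
  refine ⟨fun t ht s hs htK hsK => ?_, fun h1 => htK (h1 ht), h3⟩
  have htR : t ∈ R := hR.le ht
  have h4 := h2 s hs t ht hsK htK
  have h5 : t⁻¹ * s = t⁻¹ * (s * t⁻¹) * t⁻¹⁻¹ := by group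
  rw [h5]
  exact (mem_normalizer_iff.1 (le_normalizer_o2 _ (inv_mem htR)) _).1 h4

/-- the setting of (3) for `D = ⟨r_ij⟩`, `T = T₁` -/
theorem ki (h : In S V P ε i j) {R : Subgroup G} (hR : IsMinPar ((S : Subgroup G) ⊓ NN ε i j) R)
    (hRN : R ≤ NN ε i j) (hmv : ¬ R ≤ normalizer (Q0 ε i j : Set G))
    (hcomm : ∀ g ∈ R, ∀ v ∈ V, ∀ w ∈ V, g * v * g⁻¹ * w = w * (g * v * g⁻¹)) :
    Ki V P ε i j ((S : Subgroup G) ⊓ NN ε i j) R where
  hyp := h.hyp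
  ij := h.ij
  two := h.T_two
  min := hR
  syl := fun h1 => h.not_dvd (by
    rw [← relIndex_mul_relIndex _ R (NN ε i j) hR.le hRN]
    exact h1.mul_right _)
  RN := hRN
  QT := h.o2_le_T
  Tfix := fun g hg => L_fix h hg.2 (h.SL hg.1)
  XT := h.XX_le_T
  XK := h.not_le_o2 hR.le hRN fun h1 => hmv fun g hg => L_fix h (hRN hg) (h1 hg)
  comm := hcomm
  mv := hmv

end

section

variable {G : Type u} [Group G] [Finite G] {m : ℕ} {S : Sylow 2 G} {P : Subgroup G}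
  {ε : (Fin (2 ^ m + 1) → ZMod 2) → G} {i j : Fin (2 ^ m + 1)}

/-- **#18920 (5)** with (3) and `Eight.cent` -/
theorem five (hFF : FFThm.Stmt.{u}) (h : In S (zl (S : Subgroup G) P) P ε i j) (h3 : 3 ≤ m)
    (hG : IsCharacteristicTwoType G) (hP : IsParS (S : Subgroup G) P)
    (off : ∀ A : Subgroup G, A ≤ (S : Subgroup G) → Off (zl (S : Subgroup G) P) A → Side A ε)
    (bl : jj (S : Subgroup G) ≤ o2 P → ∀ R : Subgroup G, IsMinPar ((S : Subgroup G) ⊓ NN ε i j) R →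
      R ≤ NN ε i j → ¬ jj (S : Subgroup G) ≤ o2 R → R ≤ centralizer ({zz ε 0} : Set G))
    (hmv : ¬ NN ε i j ≤ normalizer (Q0 ε i j : Set G)) :
    ¬ NN ε i j ⊓ centralizer ({zz ε 0} : Set G) ≤ normalizer (Q0 ε i j : Set G) := by
  have e1 : ∀ R : Subgroup G, IsMinPar ((S : Subgroup G) ⊓ NN ε i j) R → R ≤ NN ε i j →
      ¬ R ≤ normalizer (Q0 ε i j : Set G) →
      (∀ g ∈ R, ∀ g' ∈ R, ∀ v ∈ zl (S : Subgroup G) P, ∀ w ∈ zl (S : Subgroup G) P,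
        g * v * g⁻¹ * (g' * w * g'⁻¹) = g' * w * g'⁻¹ * (g * v * g⁻¹)) →
      ∀ v ∈ zl (S : Subgroup G) P, (∀ t ∈ (S : Subgroup G) ⊓ NN ε i j, t * v = v * t) →
        ∀ r ∈ R, r * v = v * r := by
    intro R hR hRN hRmv hcomm v hv hT r hr
    refine (ki h hR hRN hRmv fun g hg v hv w hw => ?_).cent hv hT hr
    have := hcomm g hg 1 (one_mem _) v hv w hw
    rwa [one_mul, inv_one, mul_one] at this
  have e2 : ¬ jj (S : Subgroup G) ≤ o2 P → ∀ R : Subgroup G, IsMinPar ((S : Subgroup G) ⊓ NN ε i j) R →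
      R ≤ NN ε i j → ¬ R ≤ normalizer (zl (S : Subgroup G) P : Set G) →
      ∀ v ∈ zl (S : Subgroup G) P, (∀ t ∈ (S : Subgroup G) ⊓ NN ε i j, t * v = v * t) →
        ∀ r ∈ R, r * v = v * r := by
    intro hJ R hR hRN hRL v hv hT r hr
    have hH : CaseJ.Base.Hyp S P ε := ⟨hG, hP, h.hm, h.hyp.ev, h.fix0, off, hJ⟩
    have h5 := CaseJ.Eight.cent hFF hH h3 i j h.ij h.swap R hR hRN hRL hr
    exact (mem_centralizer_iff.1 h5 v (mem_inf.2 ⟨hv, mem_centralizer_iff.2 hT⟩)).symm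
  obtain ⟨R, -, h1, h2, h4⟩ := Five.five h hG hP e1 bl e2 hmv
  exact Five.moves ⟨R, h1, h2, h4⟩

end

end Cfsg.Agent.Omega.NSix.HT.FivePlug
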