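import Cfsg.Agent.Omega.NSix.HTwo.LemTwoIn
import Cfsg.Agent.Omega.NSix.JNot
import Cfsg.Agent.Omega.SQ1.Bau

/-!
# OMEGA N6, (H2) without (ML) and THEOREM SN: #18920 (helper605) (5), the only place where `J(S)` is used  (helper537)

`Q0 ε i j = O₂(C_G(r_ij)) ∩ C_G(V)` is the kernel of `λ`; a subgroup of `C_G(r_ij)` fixes `λ` iff it normalises `Q0`.

* `five` : if `C_G(r_ij)` moves `λ` then some minimal parabolic over `T₁ = C_S(r_ij)` in `C_G(r_ij, z_0)` moves `λ`.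
Hypotheses: `key` = (3) for `D = ⟨r_ij⟩`; `bl` = THEOREM BL* (#18620, case `J(S) ≤ O₂(P)`); `eight` = #16037 (8) (case
`J(S) ≰ O₂(P)`).
-/

set_option autoImplicit false

namespace Cfsg.Agent.Omega.NSix.HT.Five

open Subgroup Cfsg Cfsg.Agent.Omega.MinPar
open Cfsg.Agent.ZN (o2 zc zl jj zj)
open Cfsg.Agent.ZN.ChoiceBase (mem_zj AA AA_nonempty)
open Cfsg.Agent.MinSimple.VModule (o2_le o2_isPGroup le_normalizer_o2 le_o2 mem_zc)
open Cfsg.Agent.Omega.S5.Def Cfsg.Agent.Omega.S5.Syl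
open Cfsg.Agent.Omega.NSix.Base Cfsg.Agent.Omega.NSix.Basic Cfsg.Agent.Omega.NSix.Engine
open Cfsg.Agent.Omega.NSix.HTwo.LemTwo (In XX KK_le_NN KK_eq)
open Cfsg.Agent.MinSimple.MinParabolic (IsMinPar)
open Cfsg.Agent.Omega.TTn

universe u

variable {G : Type u} [Group G]

/-- the kernel of `λ : O₂(C_G(r_ij)) → F_2` -/
def Q0 {n : ℕ} (ε : (Fin n → ZMod 2) → G) (i j : Fin n) : Subgroup G := o2 (NN ε i j) ⊓ KK ε

/-- the elements of `C_G(r_ij)` acting on the labels fix `λ` -/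
theorem fix_of_acts [Finite G] {n : ℕ} {ε : (Fin n → ZMod 2) → G} {i j : Fin n} {g : G}
    {σ : Equiv.Perm (Fin n)} (hσ : Acts ε g σ) (hg : g ∈ NN ε i j) : g ∈ normalizer (Q0 ε i j : Set G) := by
  refine DiCoreAbs.mem_norm_of fun x hx => ?_
  refine mem_inf.2 ⟨(mem_normalizer_iff.1 (le_normalizer_o2 _ hg) _).1 hx.1, ?_⟩
  exact Fr.KK_conj hσ hx.2

/-- `λ` is moved by `A` -/
theorem mv_iff [Finite G] {n : ℕ} {ε : (Fin n → ZMod 2) → G} {i j : Fin n} {A : Subgroup G}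
    (hA : A ≤ NN ε i j) : (∃ g ∈ A, ∃ q ∈ o2 (NN ε i j), q ∈ KK ε ∧ ¬ g * q * g⁻¹ ∈ KK ε) ↔
      ¬ A ≤ normalizer (Q0 ε i j : Set G) := by
  constructor
  · rintro ⟨g, hg, q, hq, hqK, h1⟩ h2
    exact h1 ((mem_normalizer_iff.1 (h2 hg) q).1 (mem_inf.2 ⟨hq, hqK⟩)).2
  · intro h1
    by_contra hcon
    push Not at hcon
    refine h1 fun g hg => DiCoreAbs.mem_norm_of fun x hx => mem_inf.2 ⟨?_, hcon g hg x hx.1 hx.2⟩
    exact (mem_normalizer_iff.1 (le_normalizer_o2 _ (hA hg)) _).1 hx.1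

section J

variable [Finite G] {S : Sylow 2 G} {P : Subgroup G}

/-- `J(S) ≤ O₂(P)`: `V ≤ Ω₁ Z(J(S))` -/
theorem V_le_zj (hG : IsCharacteristicTwoType G) (hP : IsParS (S : Subgroup G) P)
    (hJ : jj (S : Subgroup G) ≤ o2 P) : zl (S : Subgroup G) P ≤ zj (S : Subgroup G) := by
  have h1 : zl (S : Subgroup G) P ≤ zc (o2 P) := hP.isLoc.zl_le S hG
  have hS : zl (S : Subgroup G) P ≤ (S : Subgroup G) := JNot.V_le_S hG hP
  intro v hv
  have hv1 := mem_zc.1 (h1 hv)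
  have hA : ∀ A ∈ AA (S : Subgroup G), v ∈ A := fun A hA =>
    SQ1.Bau.mem_AA_of_comm hA (hS hv) hv1.2.2 fun a ha => hv1.2.1 a (hJ (ZN.ChoiceBase.le_jj hA ha))
  obtain ⟨A, hA'⟩ := AA_nonempty (S : Subgroup G)
  exact mem_zj.2 ⟨ZN.ChoiceBase.le_jj hA' (hA A hA'), hv1.2.2, fun y hy => hv1.2.1 y (hJ hy)⟩

/-- `N_G(J(S))`-conjugates of `V` commute -/
theorem comm_of_norm_J (hG : IsCharacteristicTwoType G) (hP : IsParS (S : Subgroup G) P)
    (hJ : jj (S : Subgroup G) ≤ o2 P) {g g' : G} (hg : g ∈ normalizer (jj (S : Subgroup G) : Set G))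
    (hg' : g' ∈ normalizer (jj (S : Subgroup G) : Set G)) :
    ∀ v ∈ zl (S : Subgroup G) P, ∀ w ∈ zl (S : Subgroup G) P,
      g * v * g⁻¹ * (g' * w * g'⁻¹) = g' * w * g'⁻¹ * (g * v * g⁻¹) := by
  have key : ∀ g ∈ normalizer (jj (S : Subgroup G) : Set G), ∀ v ∈ zl (S : Subgroup G) P,
      g * v * g⁻¹ ∈ jj (S : Subgroup G) ∧ ∀ y ∈ jj (S : Subgroup G), y * (g * v * g⁻¹) = g * v * g⁻¹ * y := by
    intro g hg v hv
    have hv1 := mem_zj.1 (V_le_zj hG hP hJ hv)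
    refine ⟨(mem_normalizer_iff.1 hg _).1 hv1.1, fun y hy => ?_⟩
    have h1 : g⁻¹ * y * g ∈ jj (S : Subgroup G) := by
      have := (mem_normalizer_iff.1 (inv_mem hg) y).1 hy
      rwa [inv_inv] at this
    have h2 := hv1.2.2 _ h1
    calc y * (g * v * g⁻¹) = g * (g⁻¹ * y * g * v) * g⁻¹ := by group
      _ = g * (v * (g⁻¹ * y * g)) * g⁻¹ := by rw [h2]
      _ = g * v * g⁻¹ * y := by group
  intro v hv w hw
  exact (key g' hg' w hw).2 _ (key g hg v hv).1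

end J

section main

variable [Finite G] {m : ℕ} {S : Sylow 2 G} {P : Subgroup G} {ε : (Fin (2 ^ m + 1) → ZMod 2) → G}
  {i j : Fin (2 ^ m + 1)}

/-- **#18920 (5)** -/
theorem five (h : In S (zl (S : Subgroup G) P) P ε i j) (hG : IsCharacteristicTwoType G)
    (hP : IsParS (S : Subgroup G) P)
    (key : ∀ R : Subgroup G, IsMinPar ((S : Subgroup G) ⊓ NN ε i j) R → R ≤ NN ε i j →
      ¬ R ≤ normalizer (Q0 ε i j : Set G) →
      (∀ g ∈ R, ∀ g' ∈ R, ∀ v ∈ zl (S : Subgroup G) P, ∀ w ∈ zl (S : Subgroup G) P,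
        g * v * g⁻¹ * (g' * w * g'⁻¹) = g' * w * g'⁻¹ * (g * v * g⁻¹)) →
      ∀ v ∈ zl (S : Subgroup G) P, (∀ t ∈ (S : Subgroup G) ⊓ NN ε i j, t * v = v * t) → ∀ r ∈ R, r * v = v * r)
    (bl : jj (S : Subgroup G) ≤ o2 P → ∀ R : Subgroup G, IsMinPar ((S : Subgroup G) ⊓ NN ε i j) R →
      R ≤ NN ε i j → ¬ jj (S : Subgroup G) ≤ o2 R → R ≤ centralizer ({zz ε 0} : Set G))
    (eight : ¬ jj (S : Subgroup G) ≤ o2 P → ∀ R : Subgroup G, IsMinPar ((S : Subgroup G) ⊓ NN ε i j) R →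
      R ≤ NN ε i j → ¬ R ≤ normalizer (zl (S : Subgroup G) P : Set G) →
      ∀ v ∈ zl (S : Subgroup G) P, (∀ t ∈ (S : Subgroup G) ⊓ NN ε i j, t * v = v * t) → ∀ r ∈ R, r * v = v * r)
    (hmv : ¬ NN ε i j ≤ normalizer (Q0 ε i j : Set G)) :
    ∃ R : Subgroup G, IsMinPar ((S : Subgroup G) ⊓ NN ε i j) R ∧ R ≤ NN ε i j ∧
      R ≤ centralizer ({zz ε 0} : Set G) ∧ ¬ R ≤ normalizer (Q0 ε i j : Set G) := by
  have hL : ∀ g ∈ NN ε i j, g ∈ normalizer (zl (S : Subgroup G) P : Set G) →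
      g ∈ normalizer (Q0 ε i j : Set G) := by
    intro g hg hgV
    obtain ⟨σ, hσ⟩ := h.evL.perm g hgV
    exact fix_of_acts hσ hg
  -- `z_0` is centralised by `S`
  have hz : ∀ t ∈ (S : Subgroup G) ⊓ NN ε i j, t * zz ε 0 = zz ε 0 * t := by
    intro t ht
    obtain ⟨σ, hσ⟩ := h.hyp.ev.perm t (h.SP ht.1)
    have h1 := zz_conj hσ 0
    rw [h.fix0 t ht.1 σ hσ] at h1
    exact mul_inv_eq_iff_eq_mul.1 h1
  obtain ⟨R, hR, hRN, hRmv⟩ : ∃ R : Subgroup G, IsMinPar ((S : Subgroup G) ⊓ NN ε i j) R ∧ R ≤ NN ε i j ∧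
      ¬ R ≤ normalizer (Q0 ε i j : Set G) := by
    by_contra hcon
    push Not at hcon
    exact hmv (MinSimple.MinParabolic.le_of_forall inf_le_right
      (fun g hg => hL g hg.1 (h.norm_T_le hg)) hcon)
  refine ⟨R, hR, hRN, ?_, hRmv⟩
  have hRL : ¬ R ≤ normalizer (zl (S : Subgroup G) P : Set G) := fun h1 =>
    hRmv fun g hg => hL g (hRN hg) (h1 hg)
  have hz0 : zz ε 0 ∈ zl (S : Subgroup G) P := zz_mem h.hyp.ev 0
  have fin : (∀ v ∈ zl (S : Subgroup G) P, (∀ t ∈ (S : Subgroup G) ⊓ NN ε i j, t * v = v * t) →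
      ∀ r ∈ R, r * v = v * r) → R ≤ centralizer ({zz ε 0} : Set G) := fun h1 r hr =>
    mem_centralizer_singleton_iff.2 (h1 _ hz0 hz r hr)
  by_cases hJ : jj (S : Subgroup G) ≤ o2 P
  · by_cases hJR : jj (S : Subgroup G) ≤ o2 R
    · refine fin (key R hR hRN hRmv fun g hg g' hg' => ?_)
      have h1 : o2 R ≤ (S : Subgroup G) := (h.o2_le_T' hR.le hRN).trans inf_le_left
      have h2 : R ≤ normalizer (jj (S : Subgroup G) : Set G) := by
        refine (le_normalizer_o2 R).trans ?_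
        have h3 := ZN.normalizer_le_normalizer_jj (o2 R)
        rwa [ZN.jj_eq_of_le hJR h1] at h3
      exact comm_of_norm_J hG hP hJ (h2 hg) (h2 hg')
    · exact bl hJ R hR hRN hJR
  · exact fin (eight hJ R hR hRN hRL)

omit [Finite G] in
/-- the form used in (4): `C_G(r_ij, z_0)` moves `λ` -/
theorem moves {N : Subgroup G} {Q : Subgroup G} {z : G}
    (h : ∃ R : Subgroup G, R ≤ N ∧ R ≤ centralizer ({z} : Set G) ∧ ¬ R ≤ normalizer (Q : Set G)) :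
    ¬ N ⊓ centralizer ({z} : Set G) ≤ normalizer (Q : Set G) := by
  obtain ⟨R, h1, h2, h3⟩ := h
  exact fun h4 => h3 ((le_inf h1 h2).trans h4)

end main

end Cfsg.Agent.Omega.NSix.HT.Five
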