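import Cfsg.Agent.Omega.NSix.HTwo.LemTwo
import Cfsg.Agent.Omega.NSix.Engine.Irr
import Cfsg.Agent.Omega.BTwo.Avg

/-!
# OMEGA N6, (H2) by #18920 (helper605): (6), `N = C_G(r_ij)` moves `λ`  (helper821)

`Q = O₂(N)` acts on `V` as `⟨(i j)⟩`: `λ : Q → F₂`, with kernel `Q ∩ C_G(V)`; `FixL ε i j` : `N` fixes `λ`.
If `N` fixes `λ`, then `⟨V^N⟩` is abelian, `X₀ = ⟨U_ik⟩` centralises it modulo `U = U_ij`, `N` fixes the coset `z_i U`,
by averaging it normalises `⟨r_ij, z_i⟩`, and `U ≤ ⟨V^{C_G(z_i)}⟩` commutes with `U_ik`: `U ≤ V`.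

* `FixL.UU_le` : over `Engine.Hyp`, from: `N` fixes the coset `z_i U`, a subgroup of odd index which fixes `z_i`
  modulo `r_ij`, an abelian normal subgroup of `C_G(z_i)` containing `V`;
* `XX_le_CU` : `X₀` centralises `⟨V^N⟩` modulo `U`.
-/

set_option autoImplicit false
set_option linter.unusedSectionVars false

namespace Cfsg.Agent.Omega.NSix.HT.Fix

open Subgroup Cfsg
open Cfsg.Agent.ZN (o2 zc zl)
open Cfsg.Agent.MinSimple.VModule (o2_le o2_isPGroup le_normalizer_o2 le_o2)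
open Cfsg.Agent.Omega.S5.Def Cfsg.Agent.Omega.S5.Syl
open Cfsg.Agent.Omega.NSix.Base Cfsg.Agent.Omega.NSix.Basic Cfsg.Agent.Omega.NSix.Engine
open Cfsg.Agent.Omega.NSix.Zero (zpow_cases)
open Cfsg.Agent.Omega.NSix.HTwo.LemTwo (XX mem_XX In KK_le_NN)
open Cfsg.Agent.Omega.TTn.Di (cm cj cm_one_iff)
open Cfsg.Agent.Omega.TTn
open Cfsg.Agent.MinSimple.MinParabolic (IsMinPar)

universe u

variable {G : Type u} [Group G] {n : ℕ} {V P : Subgroup G} {ε : (Fin n → ZMod 2) → G} {i j : Fin n}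

/-- `C_G(r_ij)` fixes `λ` -/
def FixL (ε : (Fin n → ZMod 2) → G) (i j : Fin n) : Prop :=
  ∀ g ∈ NN ε i j, ∀ q ∈ o2 (NN ε i j), q ∈ KK ε → g * q * g⁻¹ ∈ KK ε

/-- `⟨V^N⟩` -/
def WW (V : Subgroup G) (ε : (Fin n → ZMod 2) → G) (i j : Fin n) : Subgroup G :=
  closure {x | ∃ g ∈ NN ε i j, ∃ v ∈ V, x = g * v * g⁻¹}

theorem WW_conj {g x : G} (hg : g ∈ NN ε i j) (hx : x ∈ WW V ε i j) : g * x * g⁻¹ ∈ WW V ε i j := by
  unfold WW at hx
  induction hx using closure_induction with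
  | mem x hx =>
    obtain ⟨k, hk, v, hv, rfl⟩ := hx
    exact subset_closure ⟨g * k, mul_mem hg hk, v, hv, by group⟩
  | one => rw [mul_one, mul_inv_cancel]; exact one_mem _
  | mul x y _ _ hx hy =>
    have : g * (x * y) * g⁻¹ = (g * x * g⁻¹) * (g * y * g⁻¹) := by group
    rw [this]; exact mul_mem hx hy
  | inv x _ hx =>
    have : g * x⁻¹ * g⁻¹ = (g * x * g⁻¹)⁻¹ := by group
    rw [this]; exact inv_mem hx

theorem WW_conj' {g x : G} (hg : g ∈ NN ε i j) (hx : x ∈ WW V ε i j) : g⁻¹ * x * g ∈ WW V ε i j := by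
  have h1 := WW_conj (inv_mem hg) hx
  rwa [inv_inv] at h1

theorem V_le_WW : V ≤ WW V ε i j := fun v hv => subset_closure ⟨1, one_mem _, v, hv, by group⟩

theorem UU_conj' {g x : G} (hg : g ∈ NN ε i j) (hx : x ∈ UU ε i j) : g⁻¹ * x * g ∈ UU ε i j := by
  have h1 := UU_normal (inv_mem hg) hx
  rwa [inv_inv] at h1

section

variable (h : Engine.Hyp V P ε) (hij : i ≠ j) (hfix : FixL ε i j)
include h hij

theorem V_le_Q : V ≤ o2 (NN ε i j) := (h.V_le hij).trans (h.W2_leQ hij)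

theorem V_le_K : V ≤ KK ε := by
  intro v hv
  obtain ⟨x, rfl⟩ := h.ev.surj v hv
  exact mem_KK'.2 fun y => h.ev.comm_mem (h.ev.mem x) (h.ev.mem y)

theorem V_le_NN : V ≤ NN ε i j := (V_le_Q h hij).trans (o2_le _)

/-- the elements of `Q` outside `C_G(V)` act as `(i j)` -/
theorem act_swap {q : G} (hq : q ∈ o2 (NN ε i j)) (hqK : q ∉ KK ε) : Acts ε q (Equiv.swap i j) :=
  (h.QA hij hq).resolve_left hqK

include hfix

theorem gen_mem {g v : G} (hg : g ∈ NN ε i j) (hv : v ∈ V) : g * v * g⁻¹ ∈ KK ε :=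
  hfix g hg v (V_le_Q h hij hv) (V_le_K h hij hv)

theorem WW_le_K : WW V ε i j ≤ KK ε := by
  unfold WW
  rw [closure_le]
  rintro x ⟨g, hg, v, hv, rfl⟩
  exact gen_mem h hij hfix hg hv

omit hfix in
theorem WW_le_Q : WW V ε i j ≤ o2 (NN ε i j) := by
  unfold WW
  rw [closure_le]
  rintro x ⟨g, hg, v, hv, rfl⟩
  exact (mem_normalizer_iff.1 (le_normalizer_o2 _ hg) v).1 (V_le_Q h hij hv)

/-- `Q ∩ C_G(V)` centralises `⟨V^N⟩` -/
theorem Q0_comm {q x : G} (hq : q ∈ o2 (NN ε i j)) (hqK : q ∈ KK ε) (hx : x ∈ WW V ε i j) : q * x = x * q := by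
  unfold WW at hx
  induction hx using closure_induction with
  | mem x hx =>
    obtain ⟨g, hg, v, hv, rfl⟩ := hx
    obtain ⟨y, rfl⟩ := h.ev.surj v hv
    have h1 : g⁻¹ * q * g ∈ KK ε := by
      have := hfix g⁻¹ (inv_mem hg) q hq hqK
      rwa [inv_inv] at this
    have h2 := mem_KK'.1 h1 y
    calc q * (g * ε y * g⁻¹) = g * (g⁻¹ * q * g * ε y) * g⁻¹ := by group
      _ = g * (ε y * (g⁻¹ * q * g)) * g⁻¹ := by rw [h2]
      _ = _ := by group
  | one => rw [one_mul, mul_one]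
  | mul x y _ _ hx hy => rw [← mul_assoc, hx, mul_assoc, hy, mul_assoc]
  | inv x _ hx => rw [mul_inv_eq_iff_eq_mul, mul_assoc, hx, inv_mul_cancel_left]

theorem WW_comm {x y : G} (hx : x ∈ WW V ε i j) (hy : y ∈ WW V ε i j) : x * y = y * x :=
  Q0_comm h hij hfix (WW_le_Q h hij hx) (WW_le_K h hij hfix hx) hy

/-- a conjugate of `q` acts on `⟨V^N⟩` as `q` -/
theorem cj_q {q g x : G} (hq : q ∈ o2 (NN ε i j)) (hqK : q ∉ KK ε) (hg : g ∈ NN ε i j)
    (hx : x ∈ WW V ε i j) : (g * q * g⁻¹) * x * (g * q * g⁻¹)⁻¹ = q * x * q⁻¹ := by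
  have hq' : g * q * g⁻¹ ∈ o2 (NN ε i j) := (mem_normalizer_iff.1 (le_normalizer_o2 _ hg) q).1 hq
  have hqK' : g * q * g⁻¹ ∉ KK ε := by
    intro h1
    have h2 := hfix g⁻¹ (inv_mem hg) _ hq' h1
    have e : g⁻¹ * (g * q * g⁻¹) * g⁻¹⁻¹ = q := by group
    rw [e] at h2
    exact hqK h2
  have h1 := act_swap h hij hq hqK
  have h2 := act_swap h hij hq' hqK'
  have h3 : q⁻¹ * (g * q * g⁻¹) ∈ KK ε := by
    have h4 := h1.inv.mul h2
    rw [inv_mul_cancel] at h4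
    exact h4
  have h4 := Q0_comm h hij hfix (mul_mem (inv_mem hq) hq') h3 hx
  calc (g * q * g⁻¹) * x * (g * q * g⁻¹)⁻¹ = q * ((q⁻¹ * (g * q * g⁻¹)) * x) * (g * q * g⁻¹)⁻¹ := by group
    _ = q * (x * (q⁻¹ * (g * q * g⁻¹))) * (g * q * g⁻¹)⁻¹ := by rw [h4]
    _ = _ := by group

theorem cm_conj {q g x : G} (hq : q ∈ o2 (NN ε i j)) (hqK : q ∉ KK ε) (hg : g ∈ NN ε i j)
    (hx : x ∈ WW V ε i j) : cm q (g * x * g⁻¹) = g * cm q x * g⁻¹ := by
  have h1 := cj_q h hij hfix hq hqK (inv_mem hg) hx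
  rw [inv_inv] at h1
  unfold cm
  calc q * (g * x * g⁻¹) * q⁻¹ * (g * x * g⁻¹)⁻¹ = g * ((g⁻¹ * q * g) * x * (g⁻¹ * q * g)⁻¹) * x⁻¹ * g⁻¹ := by group
    _ = g * (q * x * q⁻¹) * x⁻¹ * g⁻¹ := by rw [h1]
    _ = _ := by group

theorem cm_cases {q x : G} (hq : q ∈ o2 (NN ε i j)) (hqK : q ∉ KK ε) (hx : x ∈ WW V ε i j) :
    cm q x = 1 ∨ cm q x = rr ε i j := by
  have hr := rr_sq h.ev i j
  refine zpow_cases hr ?_
  have hrN : ∀ y ∈ NN ε i j, ∀ z ∈ zpowers (rr ε i j), y * z * y⁻¹ = z := by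
    intro y hy z hz
    rcases zpow_cases hr hz with rfl | rfl
    · group
    · exact mem_NN'.1 hy
  have hx' := hx
  unfold WW at hx'
  induction hx' using closure_induction with
  | mem x hx2 =>
    obtain ⟨g, hg, v, hv, rfl⟩ := hx2
    rw [cm_conj h hij hfix hq hqK hg (V_le_WW hv)]
    obtain ⟨y, rfl⟩ := h.ev.surj v hv
    have h1 : cm q (ε y) ∈ zpowers (rr ε i j) := by
      unfold cm
      rcases h.key_swap hij y (act_swap h hij hq hqK) with h2 | h2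
      · rw [h2, mul_inv_cancel]; exact one_mem _
      · rw [h2, h.ev.comm_mem (h.ev.mem y) (rr_mem h.ev i j), mul_inv_cancel_right]
        exact mem_zpowers _
    rw [hrN g hg _ h1]
    exact h1
  | one => unfold cm; rw [mul_one, mul_inv_cancel, inv_one, mul_one]; exact one_mem _
  | mul x y hx1 hy1 hx2 hy2 =>
    have h1 := hx2 hx1
    have h2 := hy2 hy1
    have e : cm q (x * y) = cm q x * (x * cm q y * x⁻¹) := by unfold cm; group
    rw [e, hrN x ((KK_le_NN i j) (WW_le_K h hij hfix hx1)) _ h2]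
    exact mul_mem h1 h2
  | inv x hx1 hx2 =>
    have h1 := hx2 hx1
    have e : cm q x⁻¹ = x⁻¹ * (cm q x)⁻¹ * x⁻¹⁻¹ := by unfold cm; group
    rw [e, hrN x⁻¹ (inv_mem ((KK_le_NN i j) (WW_le_K h hij hfix hx1))) _ (inv_mem h1)]
    exact inv_mem h1

/-- **(6a)** `[⟨V^N⟩, U_ik] ≤ U_ij` -/
theorem comm_mem [Finite G] {k : Fin n} (hki : k ≠ i) (hkj : k ≠ j) {x a : G} (hx : x ∈ WW V ε i j)
    (ha : a ∈ UU ε i k) : a⁻¹ * (x * a * x⁻¹) ∈ UU ε i j := by
  obtain ⟨w, F⟩ := h.exists_fr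
  obtain ⟨h1, h2⟩ := F.uq hij hki hkj ha (WW_le_Q h hij hx) (WW_le_K h hij hfix hx)
  rcases h2 with h2 | h2
  · exact h2
  exfalso
  obtain ⟨q, hq2, hqs⟩ := h.exists_w hij
  have hq := h.W2_leQ hij hq2
  have hqz : ¬ q * zz ε j = zz ε j * q := by
    intro h3
    have h4 := zz_conj hqs j
    rw [h3, mul_inv_cancel_right, Equiv.swap_apply_right] at h4
    exact hij (h.ev.single_inj h.n3 h4.symm)
  have hqK : q ∉ KK ε := fun hK => hqz (Fr.Kz hK j)
  have haK := h.UK hki.symm ha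
  have haN : a ∈ NN ε i j := KK_le_NN i j haK
  have hxN : x ∈ NN ε i j := KK_le_NN i j (WW_le_K h hij hfix hx)
  -- `q` commutes with `[a, x]`
  have h3 := cm_conj h hij hfix hq hqK (inv_mem haN) hx
  rw [inv_inv] at h3
  have hc := cm_cases h hij hfix hq hqK hx
  have hcc : ∀ y ∈ NN ε i j, y * cm q x = cm q x * y := by
    intro y hy
    rcases hc with h4 | h4
    · rw [h4, one_mul, mul_one]
    · rw [h4]; exact mem_NN.1 hy
  have h4 : cm q (a⁻¹ * x * a) = cm q x := by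
    rw [h3, hcc _ (inv_mem haN), mul_assoc, inv_mul_cancel, mul_one]
  have h5 : q * (a⁻¹ * (x * a * x⁻¹)) * q⁻¹ = a⁻¹ * (x * a * x⁻¹) := by
    have e : q * (a⁻¹ * (x * a * x⁻¹)) * q⁻¹ = cm q (a⁻¹ * x * a) * (a⁻¹ * x * a) * (cm q x * x)⁻¹ := by
      unfold cm; group
    rw [e, h4, mul_inv_rev, ← hcc _ (mul_mem (mul_mem (inv_mem haN) hxN) haN)]
    have e2 : a⁻¹ * x * a * cm q x * (x⁻¹ * (cm q x)⁻¹) = a⁻¹ * x * a * (cm q x * x⁻¹ * (cm q x)⁻¹) := by group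
    rw [e2, ← hcc _ (inv_mem hxN), mul_assoc x⁻¹, mul_inv_cancel, mul_one]
    group
  have h6 := h.UQc hij hq h2
  apply hqz
  have h7 : q * (a⁻¹ * (x * a * x⁻¹)) = a⁻¹ * (x * a * x⁻¹) * q := mul_inv_eq_iff_eq_mul.1 h5
  set b := a⁻¹ * (x * a * x⁻¹) with hb
  have h9 : q * (b * zz ε j) = b * zz ε j * q := h6
  have h8 : b * (q * zz ε j) = b * (zz ε j * q) := by
    rw [← mul_assoc, ← h7, mul_assoc, h9, mul_assoc]
  exact mul_left_cancel h8

end

/-- the elements of `N` which centralise `A` modulo `U` -/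
def CU (ε : (Fin n → ZMod 2) → G) (i j : Fin n) (A : Set G) : Subgroup G where
  carrier := {g | g ∈ NN ε i j ∧ ∀ x ∈ A, g * x * g⁻¹ * x⁻¹ ∈ UU ε i j}
  one_mem' := ⟨one_mem _, fun x _ => by
    have : (1 : G) * x * 1⁻¹ * x⁻¹ = 1 := by group
    rw [this]; exact one_mem _⟩
  mul_mem' := by
    rintro a b ⟨ha, ha1⟩ ⟨hb, hb1⟩
    refine ⟨mul_mem ha hb, fun x hx => ?_⟩
    have e : a * b * x * (a * b)⁻¹ * x⁻¹ = (a * (b * x * b⁻¹ * x⁻¹) * a⁻¹) * (a * x * a⁻¹ * x⁻¹) := by group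
    rw [e]
    exact mul_mem (UU_normal ha (hb1 x hx)) (ha1 x hx)
  inv_mem' := by
    rintro a ⟨ha, ha1⟩
    refine ⟨inv_mem ha, fun x hx => ?_⟩
    have e : a⁻¹ * x * a⁻¹⁻¹ * x⁻¹ = a⁻¹ * (a * x * a⁻¹ * x⁻¹)⁻¹ * a := by group
    rw [e]
    exact UU_conj' ha (inv_mem (ha1 x hx))

theorem CU_mono {A B : Set G} (hAB : A ⊆ B) : CU ε i j B ≤ CU ε i j A := fun _ hg => ⟨hg.1, fun x hx => hg.2 x (hAB hx)⟩

/-- `C_N(⟨V^N⟩ / U)` is normal in `N` -/
theorem CU_WW_conj {g x : G} (hg : g ∈ NN ε i j) (hx : x ∈ CU ε i j (WW V ε i j)) :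
    g * x * g⁻¹ ∈ CU ε i j (WW V ε i j : Set G) := by
  refine ⟨mul_mem (mul_mem hg hx.1) (inv_mem hg), fun y hy => ?_⟩
  have e : g * x * g⁻¹ * y * (g * x * g⁻¹)⁻¹ * y⁻¹ =
      g * (x * (g⁻¹ * y * g) * x⁻¹ * (g⁻¹ * y * g)⁻¹) * g⁻¹ := by group
  rw [e]
  exact UU_normal hg (hx.2 _ (WW_conj' hg hy))

/-- **(6b)** `X₀` centralises `⟨V^N⟩ / U` -/
theorem XX_le_CU [Finite G] (h : Engine.Hyp V P ε) (hij : i ≠ j) (hfix : FixL ε i j) :
    XX ε i j ≤ CU ε i j (WW V ε i j) := by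
  unfold XX
  rw [closure_le]
  rintro a ⟨k, hki, hkj, ha⟩
  refine ⟨KK_le_NN i j (h.UK hki.symm ha), fun x hx => ?_⟩
  have h1 := comm_mem h hij hfix hki hkj hx (inv_mem ha)
  have e : a⁻¹⁻¹ * (x * a⁻¹ * x⁻¹) = a * x * a⁻¹ * x⁻¹ := by group
  rwa [e] at h1

/-- **(6c)**: the end, from a fixed coset -/
theorem UU_le_V [Finite G] (h : Engine.Hyp V P ε) (hij : i ≠ j) {T A : Subgroup G} (hTN : T ≤ NN ε i j)
    (hodd : Odd (T.relIndex (NN ε i j)))
    (hT : ∀ t ∈ T, t * zz ε i * t⁻¹ = zz ε i ∨ t * zz ε i * t⁻¹ = zz ε j)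
    (hN : ∀ g ∈ NN ε i j, g * zz ε i * g⁻¹ * (zz ε i)⁻¹ ∈ UU ε i j)
    (hVA : V ≤ A) (hA : ∀ g, g * zz ε i = zz ε i * g → ∀ a ∈ A, g * a * g⁻¹ ∈ A)
    (hAc : ∀ a ∈ A, ∀ b ∈ A, a * b = b * a) : UU ε i j ≤ V := by
  obtain ⟨w, F⟩ := h.exists_fr
  have hr := rr_sq h.ev i j
  have hri : (rr ε i j)⁻¹ = rr ε i j := F.r_inv i j
  have hzi : ∀ k, (zz ε k)⁻¹ = zz ε k := F.z_inv
  have hzj : zz ε j = zz ε i * rr ε i j := by
    unfold rr; rw [← mul_assoc, F.z_sq, one_mul]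
  have hzK : zz ε i ∈ NN ε i j := KK_le_NN i j (F.zK i)
  have hrN : ∀ y ∈ NN ε i j, ∀ z ∈ zpowers (rr ε i j), y * z * y⁻¹ = z := by
    intro y hy z hz
    rcases zpow_cases hr hz with rfl | rfl
    · group
    · exact mem_NN'.1 hy
  have hDU : zpowers (rr ε i j) ≤ UU ε i j := by
    rw [zpowers_le]; exact F.rU hij
  -- averaging
  obtain ⟨y, hy, hyf⟩ := Cfsg.Agent.Omega.BTwo.Avg.avg (c := zz ε i) (Y := UU ε i j) (D := zpowers (rr ε i j)) hTN hodd hDU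
    (fun x hx y hy => UU_normal hx hy) (fun x hx y hy => by rw [hrN x hx y hy]; exact hy)
    (fun x hx y hy => by rw [hrN x (KK_le_NN i j (h.UK hij hx)) y hy]; exact hy)
    (fun y hy => by rw [h.Usq hij hy]; exact one_mem _)
    (fun x hx => by
      have e : (zz ε i)⁻¹ * x * zz ε i * x⁻¹ = (zz ε i)⁻¹ * (x * zz ε i * x⁻¹ * (zz ε i)⁻¹) * zz ε i := by group
      rw [e]
      exact UU_conj' hzK (hN x hx))
    (fun x hx => by
      have e : (zz ε i)⁻¹ * x * zz ε i * x⁻¹ = (zz ε i)⁻¹ * (x * zz ε i * x⁻¹) := by group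
      rw [e]
      rcases hT x hx with h1 | h1
      · rw [h1, inv_mul_cancel]; exact one_mem _
      · rw [h1, hzj, inv_mul_cancel_left]; exact mem_zpowers _)
  -- the elements of `N` fixing `z_i` fix `y` modulo `r`
  have hyy : ∀ x ∈ NN ε i j, x * zz ε i * x⁻¹ = zz ε i → x * y * x⁻¹ = y ∨ x * y * x⁻¹ = y * rr ε i j := by
    intro x hx hxz
    have e : (zz ε i * y)⁻¹ * x * (zz ε i * y) * x⁻¹ = y⁻¹ * ((zz ε i)⁻¹ * (x * zz ε i * x⁻¹)) * (x * y * x⁻¹) := by group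
    have h1 := hyf x hx
    rw [e, hxz, inv_mul_cancel, mul_one] at h1
    rcases zpow_cases hr h1 with h2 | h2
    · exact Or.inl (inv_mul_eq_one.1 h2).symm
    · exact Or.inr (inv_mul_eq_iff_eq_mul.1 h2)
  -- `y ∈ V`
  have hyK := h.UK hij hy
  obtain ⟨v, hv1, hv2, hv⟩ := h.fix_V hij hy fun k hki hkj a ha => by
    have haK := h.UK hki.symm ha
    have h1 : a * zz ε i * a⁻¹ = zz ε i := by rw [Fr.Kz haK, mul_inv_cancel_right]
    have e : cm y a = y * (a * y * a⁻¹)⁻¹ := by unfold cm; group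
    rw [e]
    rcases hyy a (KK_le_NN i j haK) h1 with h2 | h2
    · left; rw [h2, mul_inv_cancel]
    · right; rw [h2, mul_inv_rev, hri, ← mul_assoc, Fr.Kr hyK, mul_inv_cancel_right]
  -- `y` is constant off `{i, j}`
  have hcon : ∀ k l, k ≠ i → k ≠ j → l ≠ i → l ≠ j → k ≠ l → v k = v l := by
    intro k l hki hkj hli hlj hkl
    obtain ⟨p, hp, hps⟩ := h.ev.full (Equiv.swap k l)
    have hsi : Equiv.swap k l i = i := Equiv.swap_apply_of_ne_of_ne hki.symm hli.symm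
    have hsj : Equiv.swap k l j = j := Equiv.swap_apply_of_ne_of_ne hkj.symm hlj.symm
    have hpN := h.acts_NN hps hsi hsj
    have h1 : p * zz ε i * p⁻¹ = zz ε i := by rw [zz_conj hps, hsi]
    have h2 := hyy p hpN h1
    rw [hv, hps v] at h2
    have hvi : (v ∘ (Equiv.swap k l).symm) i = v i := by
      rw [Function.comp_apply, Equiv.symm_swap, hsi]
    rcases h2 with h2 | h2
    · rcases (h.ev.eq_iff).1 h2 with h3 | h3
      · have h4 := congrFun h3 k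
        rw [Function.comp_apply, Equiv.symm_swap, Equiv.swap_apply_left] at h4
        exact h4.symm
      · exfalso
        have h4 := congrFun h3 i
        rw [hvi, Pi.add_apply, Pi.one_apply] at h4
        exact one_ne_zero (left_eq_add.1 h4)
    · exfalso
      rw [F.rr_eq, ← h.ev.add] at h2
      rcases (h.ev.eq_iff).1 h2 with h3 | h3
      · have h4 := congrFun h3 i
        rw [hvi, Pi.add_apply, Pi.add_apply, Pi.single_eq_same, Pi.single_eq_of_ne hij, add_zero] at h4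
        exact one_ne_zero (left_eq_add.1 h4)
      · obtain ⟨m, h5, h6, h7, h8⟩ := exists_fifth h.n5 i j k l
        have h4 := congrFun h3 m
        rw [Function.comp_apply, Equiv.symm_swap, Equiv.swap_apply_of_ne_of_ne h7 h8, Pi.add_apply, Pi.add_apply,
          Pi.add_apply, Pi.single_eq_of_ne h5, Pi.single_eq_of_ne h6, add_zero, add_zero, Pi.one_apply] at h4
        exact one_ne_zero (left_eq_add.1 h4)
  have hy1 : y = 1 ∨ y = rr ε i j := by
    obtain ⟨k, hki, hkj, -, -⟩ := exists_fifth h.n5 i j i j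
    have h1 : ∀ l, l ≠ i → l ≠ j → v l = v k := by
      intro l hli hlj
      by_cases hkl : k = l
      · rw [hkl]
      · exact (hcon k l hki hkj hli hlj hkl).symm
    rcases Tv.z2 (v k) with h2 | h2
    · left
      have h3 : v = 0 := by
        funext l
        by_cases hli : l = i
        · rw [hli, hv1]; rfl
        by_cases hlj : l = j
        · rw [hlj, hv2]; rfl
        rw [h1 l hli hlj, h2]; rfl
      rw [hv, h3, h.ev.zero]
    · right
      have h3 : v = 1 + (Pi.single i 1 + Pi.single j 1) := by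
        funext l
        rw [Pi.add_apply, Pi.add_apply, Pi.one_apply]
        by_cases hli : l = i
        · rw [hli, hv1, Pi.single_eq_same, Pi.single_eq_of_ne hij]; decide
        by_cases hlj : l = j
        · rw [hlj, hv2, Pi.single_eq_same, Pi.single_eq_of_ne hij.symm]; decide
        rw [h1 l hli hlj, h2, Pi.single_eq_of_ne hli, Pi.single_eq_of_ne hlj, add_zero, add_zero]
      rw [hv, h3, h.ev.add, h.ev.one, one_mul, F.rr_eq]
  -- `N` normalises `⟨r, z_i⟩`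
  have hz : ∀ g ∈ NN ε i j, g * zz ε i * g⁻¹ = zz ε i ∨ g * zz ε i * g⁻¹ = zz ε j := by
    intro g hg
    have h1 := hyf g hg
    have h2 : ∀ x ∈ NN ε i j, x * y = y * x := by
      intro x hx
      rcases hy1 with rfl | rfl
      · rw [one_mul, mul_one]
      · exact mem_NN.1 hx
    have e : (zz ε i * y)⁻¹ * g * (zz ε i * y) * g⁻¹ = (zz ε i)⁻¹ * (g * zz ε i * g⁻¹) := by
      rw [h2 _ hzK, mul_inv_rev]
      calc (zz ε i)⁻¹ * y⁻¹ * g * (y * zz ε i) * g⁻¹ = (zz ε i)⁻¹ * (y⁻¹ * (g * y)) * zz ε i * g⁻¹ := by group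
        _ = (zz ε i)⁻¹ * (y⁻¹ * (y * g)) * zz ε i * g⁻¹ := by rw [h2 g hg]
        _ = _ := by group
    rw [e] at h1
    rcases zpow_cases hr h1 with h3 | h3
    · exact Or.inl (inv_mul_eq_one.1 h3).symm
    · right
      rw [hzj]
      exact inv_mul_eq_iff_eq_mul.1 h3
  -- `U ≤ A`
  obtain ⟨q, hq2, hqs⟩ := h.exists_w hij
  have hq := h.W2_leQ hij hq2
  have hqN : q ∈ NN ε i j := o2_le _ hq
  have hUA : UU ε i j ≤ A := by
    have hUU : UU ε i j = closure {x | ∃ g ∈ NN ε i j, ∃ k, k ≠ i ∧ k ≠ j ∧ x = g * zz ε k * g⁻¹} := rfl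
    rw [hUU, closure_le]
    rintro x ⟨g, hg, k, hki, hkj, rfl⟩
    rcases hz g hg with h1 | h1
    · exact hA g (mul_inv_eq_iff_eq_mul.1 h1) _ (hVA (zz_mem h.ev k))
    · have h2 : (q * g) * zz ε i * (q * g)⁻¹ = zz ε i := by
        have e : (q * g) * zz ε i * (q * g)⁻¹ = q * (g * zz ε i * g⁻¹) * q⁻¹ := by group
        rw [e, h1, zz_conj hqs, Equiv.swap_apply_right]
      have h3 := hA _ (mul_inv_eq_iff_eq_mul.1 h2) _ (hVA (zz_mem h.ev k))
      have h4 : (q * g) * zz ε k * (q * g)⁻¹ ∈ UU ε i j := by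
        rw [hUU]
        exact subset_closure ⟨q * g, mul_mem hqN hg, k, hki, hkj, rfl⟩
      have h5 := h.UQc hij hq h4
      have e : g * zz ε k * g⁻¹ = q⁻¹ * ((q * g) * zz ε k * (q * g)⁻¹) * q := by group
      change g * zz ε k * g⁻¹ ∈ A
      rw [e, mul_assoc, ← h5, inv_mul_cancel_left]
      exact h3
  -- `U_ik ≤ A`
  have hUA' : ∀ k, k ≠ i → k ≠ j → UU ε i k ≤ A := by
    intro k hki hkj a ha
    obtain ⟨p, -, hp⟩ := h.ev.full (Equiv.swap j k)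
    have hsi : Equiv.swap j k i = i := Equiv.swap_apply_of_ne_of_ne hij hki.symm
    have h1 : p⁻¹ * a * p ∈ UU ε i j := by
      have h2 := UU_conj hp.inv ha
      rw [Equiv.swap_inv, hsi, Equiv.swap_apply_right, inv_inv] at h2
      exact h2
    have h2 := hA p (by
      have := zz_conj hp i
      rw [hsi] at this
      exact mul_inv_eq_iff_eq_mul.1 this) _ (hUA h1)
    have e : p * (p⁻¹ * a * p) * p⁻¹ = a := by group
    rwa [e] at h2
  intro s hs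
  obtain ⟨x, -, -, rfl⟩ := h.fix_V hij hs fun k hki hkj a ha =>
    Or.inl (cm_one_iff.2 (hAc s (hUA hs) a (hUA' k hki hkj ha)))
  exact h.ev.mem x

/-- if one `U_ij` is in `V`, all are -/
theorem UU_le_V_all (h : Engine.Hyp V P ε) (hij : i ≠ j) (hU : UU ε i j ≤ V) {a b : Fin n} (hab : a ≠ b) :
    UU ε a b ≤ V := by
  obtain ⟨σ, h1, h2, -⟩ := exists_perm hij hab
  obtain ⟨p, hp, hps⟩ := h.ev.full σ
  intro x hx
  have h3 := UU_conj hps.inv hx
  have e : ∀ m, σ⁻¹ (σ m) = m := fun m => σ.symm_apply_apply m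
  rw [← h1, ← h2, e, e, inv_inv] at h3
  obtain ⟨y, hy⟩ := h.ev.surj _ (hU h3)
  have h4 : x = p * (p⁻¹ * x * p) * p⁻¹ := by group
  rw [h4, ← hy, hps y]
  exact h.ev.mem _

end Cfsg.Agent.Omega.NSix.HT.Fix
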