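import Cfsg.Agent.Omega.NSix.HTwo.Main
import Cfsg.Agent.Omega.NSix.HT.Five
import Cfsg.Agent.Omega.NSix.HT.Fix
import Cfsg.Agent.Omega.NSix.PtCen

/-!
# OMEGA N6, (H2) by #18920 (helper605): (6), the end  (helper821)

`false_of_fixL` : in the position `Pos` (two disjoint `U_ij`, `U_kl` do not commute), `S` inducing `(i j)`,
`N_N(V_ij) ≤ N_G(V)` (`LemTwo.In`): `N = C_G(r_ij)` does not fix `λ : O₂(N) → F₂`.
-/

set_option autoImplicit false
set_option linter.unusedSectionVars false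

namespace Cfsg.Agent.Omega.NSix.HT.Fix

open Subgroup Cfsg
open Cfsg.Agent.ZN (o2 zc zl)
open Cfsg.Agent.MinSimple.VModule (o2_le o2_isPGroup le_normalizer_o2 le_o2)
open Cfsg.Agent.Omega.S5.Def Cfsg.Agent.Omega.S5.Syl
open Cfsg.Agent.Omega.NSix.Base Cfsg.Agent.Omega.NSix.Basic Cfsg.Agent.Omega.NSix.Engine
open Cfsg.Agent.Omega.NSix.HTwo.LemTwo (XX In)
open Cfsg.Agent.Omega.NSix.HTwo.Main (Pos)
open Cfsg.Agent.Omega.TTn
open Cfsg.Agent.MinSimple.MinParabolic (IsMinPar)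

universe u

variable {G : Type u} [Group G] [Finite G] {m : ℕ}

/-- `O₂(C_G(z_i))` centralises `V` -/
theorem o2_le_cent (S : Sylow 2 G) {V P : Subgroup G} {ε : (Fin (2 ^ m + 1) → ZMod 2) → G} (hm : 3 ≤ m)
    (h : EvenSet (2 ^ m + 1) V P ε) (hSP : (S : Subgroup G) ≤ P) (h0 : Fix0 ε (S : Subgroup G))
    (i : Fin (2 ^ m + 1)) : o2 (centralizer ({zz ε i} : Set G)) ≤ centralizer (V : Set G) := by
  intro x hx
  obtain ⟨p, hp, hps⟩ := h.full (Equiv.swap 0 i)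
  have h1 := PtCen.conj_o2_cent (g := p) hx
  rw [zz_conj hps, Equiv.swap_apply_right] at h1
  have h2 := PtCen.o2_le_cent S hm h hSP h0 h1
  rw [mem_centralizer_iff] at h2 ⊢
  intro v hv
  obtain ⟨y, rfl⟩ := h.surj v hv
  have h3 := h2 (p * ε y * p⁻¹) (by rw [hps y]; exact h.mem _)
  have h4 : p * (ε y * x) * p⁻¹ = p * (x * ε y) * p⁻¹ := by
    calc p * (ε y * x) * p⁻¹ = p * ε y * p⁻¹ * (p * x * p⁻¹) := by group
      _ = p * x * p⁻¹ * (p * ε y * p⁻¹) := h3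
      _ = _ := by group
  exact mul_left_cancel (mul_right_cancel h4)

/-- the elements of `C_G(z_i)` normalise `Z(O₂(C_G(z_i)))` -/
theorem conj_center {z g a : G} (hg : g * z = z * g)
    (ha : a ∈ o2 (centralizer ({z} : Set G)) ⊓ centralizer (o2 (centralizer ({z} : Set G)) : Set G)) :
    g * a * g⁻¹ ∈ o2 (centralizer ({z} : Set G)) ⊓ centralizer (o2 (centralizer ({z} : Set G)) : Set G) := by
  have hgC : g ∈ centralizer ({z} : Set G) := mem_centralizer_singleton_iff.2 hg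
  have hn := le_normalizer_o2 _ hgC
  refine ⟨(mem_normalizer_iff.1 hn a).1 ha.1, mem_centralizer_iff.2 fun y hy => ?_⟩
  have h1 : g⁻¹ * y * g ∈ o2 (centralizer ({z} : Set G)) := by
    have := (mem_normalizer_iff.1 (inv_mem hn) y).1 hy
    rwa [inv_inv] at this
  have h2 := mem_centralizer_iff.1 ha.2 _ h1
  calc y * (g * a * g⁻¹) = g * (g⁻¹ * y * g * a) * g⁻¹ := by group
    _ = g * (a * (g⁻¹ * y * g)) * g⁻¹ := by rw [h2]
    _ = _ := by group

variable {S : Sylow 2 G} {P : Subgroup G} {ε : (Fin (2 ^ m + 1) → ZMod 2) → G} {i j : Fin (2 ^ m + 1)}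

/-- the elements of `N ∩ N_G(V)` fix `{z_i, z_j}` -/
theorem zz_of_mem {V : Subgroup G} (hI : In S V P ε i j) {g : G} (hg : g ∈ NN ε i j)
    (hgL : g ∈ normalizer (V : Set G)) : g * zz ε i * g⁻¹ = zz ε i ∨ g * zz ε i * g⁻¹ = zz ε j := by
  obtain ⟨σ, hσ⟩ := hI.evL.perm g hgL
  rw [zz_conj hσ]
  rcases hI.cosetHyp.pair_of_acts hσ (mem_NN.1 hg) with ⟨h1, -⟩ | ⟨h1, -⟩
  · left; rw [h1]
  · right; rw [h1]

/-- `N` fixes the coset `z_i U` if it fixes `λ` -/
theorem coset {V : Subgroup G} (hI : In S V P ε i j) (hfix : FixL ε i j) :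
    NN ε i j ≤ CU ε i j {zz ε i} := by
  have hij := hI.ij
  have hL : ∀ g ∈ NN ε i j, g ∈ normalizer (V : Set G) → g ∈ CU ε i j ({zz ε i} : Set G) := by
    intro g hg hgL
    refine ⟨hg, fun x hx => ?_⟩
    rw [Set.mem_singleton_iff] at hx
    subst hx
    rcases zz_of_mem hI hg hgL with h1 | h1
    · rw [h1, mul_inv_cancel]; exact one_mem _
    · rw [h1]
      have h2 : (zz ε i)⁻¹ = zz ε i := inv_eq_of_mul_eq_one_left (zz_sq hI.hyp.ev i)
      rw [h2]
      obtain ⟨w, F⟩ := hI.hyp.exists_fr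
      have h3 := F.rU hij.symm
      rwa [F.Usym] at h3
  have hK : CU ε i j (WW V ε i j : Set G) ≤ CU ε i j ({zz ε i} : Set G) :=
    CU_mono (Set.singleton_subset_iff.2 (V_le_WW (zz_mem hI.hyp.ev i)))
  refine MinSimple.MinParabolic.le_of_forall (S := (S : Subgroup G) ⊓ NN ε i j) inf_le_right
    (fun g hg => hL g hg.1 (hI.norm_T_le hg)) fun R hR hRN => ?_
  by_cases hRL : R ≤ normalizer (V : Set G)
  · exact fun g hg => hL g (hRN hg) (hRL hg)
  have hXo := hI.not_le_o2 hR.le hRN hRL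
  have hT : ¬ 2 ∣ ((S : Subgroup G) ⊓ NN ε i j).relIndex R := fun h1 => hI.not_dvd (by
    rw [← relIndex_mul_relIndex _ R (NN ε i j) hR.le hRN]
    exact h1.mul_right _)
  have hf : Fact (Nat.Prime 2) := ⟨Nat.prime_two⟩
  rcases hR.sup_eq_or_inf_le (N := CU ε i j (WW V ε i j : Set G) ⊓ R) hI.T_two hT inf_le_right (fun g hg =>
    DiCoreAbs.mem_norm_of fun x hx => mem_inf.2 ⟨CU_WW_conj (hRN hg) hx.1, mul_mem (mul_mem hg hx.2) (inv_mem hg)⟩) with
    h1 | h1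
  · rw [← h1]
    exact sup_le (inf_le_left.trans hK) fun g hg => hL g hg.2 (hI.SL hg.1)
  · exfalso
    refine hXo (le_trans (le_inf hI.XX_le_T (le_inf (XX_le_CU hI.hyp hij hfix) (hI.XX_le_T.trans hR.le))) h1)

/-- **(6) of #18920**: `N` moves `λ`. -/
theorem false_of_fixL (h : Pos S P ε) (hI : In S (zl (S : Subgroup G) P) P ε i j) (hfix : FixL ε i j) :
    False := by
  have hij := hI.ij
  have hU : UU ε i j ≤ zl (S : Subgroup G) P := by
    refine UU_le_V h.hyp hij (T := (S : Subgroup G) ⊓ NN ε i j)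
      (A := o2 (centralizer ({zz ε i} : Set G)) ⊓ centralizer (o2 (centralizer ({zz ε i} : Set G)) : Set G))
      inf_le_right ?_ ?_ ?_ ?_ ?_ ?_
    · rw [← Nat.not_even_iff_odd, even_iff_two_dvd]
      exact hI.not_dvd
    · exact fun t ht => zz_of_mem hI ht.2 (hI.SL ht.1)
    · exact fun g hg => (coset hI hfix hg).2 _ rfl
    · refine le_inf (PtCen.le_o2_cent h.c2 S h.m3 h.hyp.ev h.par.le h.fix0 i) fun v hv => ?_
      refine mem_centralizer_iff.2 fun x hx => ?_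
      exact (mem_centralizer_iff.1 (o2_le_cent S h.m3 h.hyp.ev h.par.le h.fix0 i hx) v hv).symm
    · exact fun g hg a ha => conj_center hg ha
    · exact fun a ha b hb => mem_centralizer_iff.1 hb.2 a ha.1
  obtain ⟨a, b, c, d, hD⟩ : ∃ a b c d : Fin (2 ^ m + 1), D4 a b c d := by
    have h5 : 5 ≤ 2 ^ m + 1 := five_le hI.hm
    refine ⟨⟨0, by omega⟩, ⟨1, by omega⟩, ⟨2, by omega⟩, ⟨3, by omega⟩, ?_, ?_, ?_, ?_, ?_, ?_⟩ <;>
      · intro e
        have := congrArg Fin.val e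
        simp at this
  exact h.nc a b c d hD fun u hu y hy =>
    h.hyp.ev.comm_mem (UU_le_V_all h.hyp hij hU hD.ij hu) (UU_le_V_all h.hyp hij hU hD.kl hy)

/-- `N` moves `λ`: some `g ∈ N` does not normalise `O₂(N) ∩ C_G(V)` -/
theorem exists_mover (h : Pos S P ε) (hI : In S (zl (S : Subgroup G) P) P ε i j) :
    ∃ g ∈ NN ε i j, ∃ q ∈ o2 (NN ε i j), q ∈ KK ε ∧ ¬ g * q * g⁻¹ ∈ KK ε := by
  by_contra hc
  push Not at hc
  exact false_of_fixL h hI fun g hg q hq hqK => hc g hg q hq hqK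

/-- the same with 537's `Q0` -/
theorem not_le_normalizer (h : Pos S P ε) (hI : In S (zl (S : Subgroup G) P) P ε i j) :
    ¬ NN ε i j ≤ normalizer (Five.Q0 ε i j : Set G) :=
  (Five.mv_iff le_rfl).1 (exists_mover h hI)

end Cfsg.Agent.Omega.NSix.HT.Fix
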