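import Cfsg.Agent.Omega.NSix.HT.Bl
import Cfsg.Agent.Omega.NSix.HT.EightIn
import Cfsg.Agent.Omega.NSix.HT.FivePlug
import Cfsg.Agent.Omega.NSix.HT.FixEnd

/-!
# OMEGA N6, (H2) by #18920 (helper605): the end, K-free  (helper840)

* `comm_zz` : the conjugates of `V` under `C_G(z_k)` commute;
* `false_of` : (4), (5), (6) of #18920;
* `symH2 : SymH2 K`, `symBig : S5.Main.SymBig K` for every class `K`.
-/

set_option autoImplicit false
set_option linter.unusedSectionVars false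

namespace Cfsg.Agent.Omega.NSix.HT.EndMain

open Subgroup Cfsg Cfsg.Agent.Omega.MinPar
open Cfsg.Agent.ZN (o2 zc zl jj)
open Cfsg.Agent.MinSimple.VModule (o2_le o2_isPGroup le_normalizer_o2 le_o2 mem_zc)
open Cfsg.Agent.Omega.Frame (Ctx Cls)
open Cfsg.Agent.Omega.S5.Def Cfsg.Agent.Omega.S5.Syl
open Cfsg.Agent.Omega.NSix.Base Cfsg.Agent.Omega.NSix.Basic Cfsg.Agent.Omega.NSix.Engine
open Cfsg.Agent.Omega.NSix.HTwo.LemTwo (XX In)
open Cfsg.Agent.Omega.NSix.HTwo.Main (Pos)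
open Cfsg.Agent.Omega.S5.SymBig (H2 Pr SymH2)
open Cfsg.Agent.MinSimple.MinParabolic (IsMinPar)

universe u

variable {G : Type u} [Group G] [Finite G] {S : Sylow 2 G} {P : Subgroup G} {m : ℕ}
  {ε : (Fin (2 ^ m + 1) → ZMod 2) → G} {i j : Fin (2 ^ m + 1)}

/-- The conjugates of `V` under `C_G(z_k)` commute. -/
theorem comm_zz (h : Pos S P ε) (k : Fin (2 ^ m + 1)) :
    ∀ g ∈ centralizer ({zz ε k} : Set G), ∀ g' ∈ centralizer ({zz ε k} : Set G),
      ∀ v ∈ zl (S : Subgroup G) P, ∀ w ∈ zl (S : Subgroup G) P,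
        g * v * g⁻¹ * (g' * w * g'⁻¹) = g' * w * g'⁻¹ * (g * v * g⁻¹) := by
  intro g hg g' hg' v hv w hw
  have h1 := PtCen.le_o2_cent h.c2 S h.m3 h.hyp.ev h.par.le h.fix0 k hv
  have h2 := (mem_normalizer_iff.1 (le_normalizer_o2 _ (mul_mem (inv_mem hg') hg)) v).1 h1
  have h3 := mem_centralizer_iff.1 (Fix.o2_le_cent S h.m3 h.hyp.ev h.par.le h.fix0 k h2) w hw
  calc g * v * g⁻¹ * (g' * w * g'⁻¹) = g' * (g'⁻¹ * g * v * (g'⁻¹ * g)⁻¹ * w) * g'⁻¹ := by group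
    _ = g' * (w * (g'⁻¹ * g * v * (g'⁻¹ * g)⁻¹)) * g'⁻¹ := by rw [h3]
    _ = _ := by group

/-- **#18920, (1)-(6)** : a counterexample to (H2) does not exist. -/
theorem false_of (h : Pos S P ε) : False := by
  obtain ⟨i, j, hij, hsw⟩ := PairCen.exists_swap_mem (by have := h.m3; omega) h.hyp.ev
    (MinSimple.Basic.not_dvd_relIndex S h.par.le)
  have hI := HTwo.StepC.in_of h hij hsw
  refine FivePlug.five FFBr.ffthm hI h.m3 h.c2 h.par (fun A hA hoff => ?_) (Bl.bl h hI)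
    (Fix.not_le_normalizer h hI) ?_
  · exact EightIn.side_of_off h.hyp.ev hI.three (hA.trans h.par.le)
      (fun a ha σ hσ => h.fix0 a (hA ha) σ hσ) hoff
  · exact Four.four hI h.m3 (HTwo.StepC.nc_of h) (FivePlug.key4 hI) (comm_zz h 0)

/-- **(H2)** of N6 (`NSix`), for every class. -/
theorem symH2 (K : Cls.{u}) : SymH2 K := by
  intro G _ _ hG hK S _ _ _ _ _ P₁ P₂ y m m' ε ε₂ hm hm' hl _
  by_contra hno
  exact false_of (HTwo.Main.Pos.of (S5.SymBig.pr_of hG.char2 (by omega) hm' hl) hm hl.pair.star₁ hno)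

/-- **The leaf II.c**, for every class. -/
theorem symBig (K : Cls.{u}) : S5.Main.SymBig K := S5.SymBig.symBig_of (symH2 K)

end Cfsg.Agent.Omega.NSix.HT.EndMain
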