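import Cfsg.Agent.Omega.FF.TvAct

/-!
# OMEGA N6, #18920 (helper605) (3): the transvection part of the KEY LEMMA  (helper537)

`two_of` : `X` a minimal parabolic over its Sylow 2-subgroup `S` acting on the `F_2`-module `W`, `O₂(X)` trivial on `W`,
`t ∈ S` a transvection with centre `c0`, `c0` fixed by `S`, `W` spanned by the conjugates of `c0`. Then every `s ∈ S`
acts on `W` as `1` or as `t`.
-/

set_option autoImplicit false
set_option linter.unusedSectionVars false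

namespace Cfsg.Agent.Omega.NSix.HT.KeyRep

open Subgroup Cfsg Cfsg.Agent.MinSimple.MinParabolic Cfsg.Agent.Omega.Tv

variable {X : Type*} [Group X] [Finite X] {W : Type*} [AddCommGroup W] [Module (ZMod 2) W]
  {ρ0 : X →* (W ≃ₗ[ZMod 2] W)} {S : Sylow 2 X} {M : Subgroup X}

theorem two_of (h : RHyp ρ0 S M) {t : X} (ht : t ∈ S) {c0 : W} {f0 : W →ₗ[ZMod 2] ZMod 2}
    (htr : IsTr ρ0 t c0 f0) (hfix : ∀ s ∈ S, ρ0 s c0 = c0)
    (hspan : Submodule.span (ZMod 2) (Set.range fun x => ρ0 x c0) = ⊤) {s : X} (hs : s ∈ S) :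
    (∀ w, ρ0 s w = w) ∨ ∀ w, ρ0 s w = ρ0 t w := by
  obtain ⟨E, c, f, hp, htE⟩ := h.exists_pre htr
  have o := hp.out
  set tb := ρ0.rangeRestrict t with htb
  have htS : tb ∈ RHyp.Sb ρ0 S := RHyp.mem_Sb ht
  have hfixb : ∀ g : ρ0.range, g ∈ RHyp.Sb ρ0 S → RHyp.rg ρ0 g c0 = c0 := by
    rintro _ ⟨x, hx, rfl⟩
    exact hfix x hx
  have hct : c tb = c0 := (o.tr tb htE).c_unique ⟨htr.fc, htr.c_ne, htr.f_ne, htr.act⟩
  -- `t` is the only member of `E ∩ T`
  have h1 : ∀ e ∈ E, e ∈ RHyp.Sb ρ0 S → e = tb := by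
    intro e he heS
    obtain ⟨g, hg, rfl⟩ := o.transT tb htE htS e he heS
    refine o.eq_of_p _ he _ htE fun z _ => ?_
    rw [o.c_conj htE, hct, hfixb g hg]
  have htM : tb ∈ RHyp.Mb ρ0 M := o.TM htS
  have h2 : ∀ b ∈ E, b ∉ RHyp.Mb ρ0 M → f b (c tb) = 1 := by
    intro b hb hbM
    obtain ⟨e, he, heS, h3⟩ := o.adj b hb hbM
    rwa [h1 e he heS] at h3
  obtain ⟨b, hb, hbM⟩ := o.exists_not_mem
  have h3 : ∀ d ∈ E, d ∉ RHyp.Mb ρ0 M → d = b ∨ d = tb * b * tb⁻¹ := fun d hd hdM =>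
    o.eq_or_conj b hb hbM d hd hdM tb htE htM (h2 b hb hbM) (h2 d hd hdM)
  -- an element of `T` which commutes with `b` is trivial
  have key : ∀ g : ρ0.range, g ∈ RHyp.Sb ρ0 S → g * b * g⁻¹ = b → ∀ w, RHyp.rg ρ0 g w = w := by
    intro g hg hgb
    have hgM : g ∈ RHyp.Mb ρ0 M := o.TM hg
    have hcom : ∀ d ∈ E \ (RHyp.Mb ρ0 M : Set ρ0.range), g * d = d * g := by
      rintro d ⟨hd, hdM⟩
      rw [← mul_inv_eq_iff_eq_mul]
      rcases h3 d hd hdM with h4 | h4
      · rw [h4, hgb]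
      · rcases h3 _ (o.conj d hd g) (conj_notM hdM hgM) with h5 | h5
        · have h6 : d = b := by
            rw [← hgb] at h5
            exact mul_left_cancel (mul_right_cancel h5)
          rw [h6, hgb]
        · rw [h5, h4]
    have hcl : ∀ d ∈ closure (E \ (RHyp.Mb ρ0 M : Set ρ0.range)), g * d = d * g := by
      intro d hd
      have h4 : closure (E \ (RHyp.Mb ρ0 M : Set ρ0.range)) ≤ centralizer {g} := by
        rw [closure_le]
        intro d hd
        rw [SetLike.mem_coe, mem_centralizer_singleton_iff]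
        exact (hcom d hd).symm
      exact (mem_centralizer_singleton_iff.1 (h4 hd)).symm
    have hDn := o.normalD
    have hfx : ∀ x : X, RHyp.rg ρ0 g (ρ0 x c0) = ρ0 x c0 := by
      intro x
      have h4 : ρ0.rangeRestrict x ∈ closure (E \ (RHyp.Mb ρ0 M : Set ρ0.range)) ⊔
          (RHyp.Sb ρ0 S : Subgroup ρ0.range) := by
        rw [o.sup_T]; exact mem_top _
      obtain ⟨d, hd, s', hs', e⟩ := mem_sup_of_normal_left.1 h4
      have h5 : ρ0 x c0 = RHyp.rg ρ0 d c0 := by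
        change RHyp.rg ρ0 (ρ0.rangeRestrict x) c0 = _
        rw [← e, rmul, hfixb s' hs']
      rw [h5, ← rmul, hcl d hd, rmul, hfixb g hg]
    intro w
    have h4 : w ∈ Submodule.span (ZMod 2) (Set.range fun x => ρ0 x c0) := by
      rw [hspan]; exact Submodule.mem_top
    induction h4 using Submodule.span_induction with
    | mem x hx =>
      obtain ⟨x, rfl⟩ := hx
      exact hfx x
    | zero => exact map_zero _
    | add x y _ _ hx hy => rw [map_add, hx, hy]
    | smul a x _ hx => rw [map_smul, hx]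
  have hsS : ρ0.rangeRestrict s ∈ RHyp.Sb ρ0 S := RHyp.mem_Sb hs
  have hsM : ρ0.rangeRestrict s ∈ RHyp.Mb ρ0 M := o.TM hsS
  rcases h3 _ (o.conj b hb (ρ0.rangeRestrict s)) (conj_notM hbM hsM) with h4 | h4
  · left
    exact key _ hsS h4
  · right
    have h5 := key (tb⁻¹ * ρ0.rangeRestrict s)
      ((RHyp.Sb ρ0 S : Subgroup ρ0.range).mul_mem ((RHyp.Sb ρ0 S : Subgroup ρ0.range).inv_mem htS) hsS) (by
      calc tb⁻¹ * ρ0.rangeRestrict s * b * (tb⁻¹ * ρ0.rangeRestrict s)⁻¹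
          = tb⁻¹ * (ρ0.rangeRestrict s * b * (ρ0.rangeRestrict s)⁻¹) * tb := by group
        _ = b := by rw [h4]; group)
    intro w
    have h6 := h5 w
    rw [rmul] at h6
    have h7 := congrArg (RHyp.rg ρ0 tb) h6
    rw [rinv'] at h7
    exact h7

end Cfsg.Agent.Omega.NSix.HT.KeyRep
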