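import Cfsg.Agent.Omega.NSix.HT.Five

/-!
# OMEGA N6, (H2) without (ML) and without SN (helper605 #18920): (1) and (2)  (helper250)

Over `LemTwo.In S V P ε i j` (helper537). `N = C_G(r_ij)`, `L = N_G(V)`, `X₀ = XX ε i j = ⟨U_ik⟩`,
`Q⁰ = Q0 ε i j = O₂(N) ∩ C_G(V)`; the functional `λ : O₂(N) → ⟨r_ij⟩` (`q` acts on `V` as `(i j)^λ(q)`) has kernel `Q⁰`.

* `mem_norm` : LEMMA N: `x ∈ N`, `X₀ ≤ L^x` implies `x ∈ L`;
* `syl_D`, `norm_syl` : for `r_ij ∈ D ≤ V` and `T` Sylow in `C_L(D)`: `T` is Sylow in `C_G(D)`, its normaliser in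
  `C_G(D)` is in `L`; more generally `mem_of_le`;
* `fusion` : for `x ∈ N` there is `c ∈ C_G(V ∩ V^x)` with `V^x = V^c`;
* `two` : (2): if `V` and `V^x` commute, `x ∈ N`, then `[Q⁰, U_ik]` centralises `V^x`;
* `L_fix` : `L ∩ N` fixes `λ`.
-/

set_option autoImplicit false
set_option linter.unusedSectionVars false

namespace Cfsg.Agent.Omega.NSix.HT

open Subgroup Cfsg
open Cfsg.Agent.ZN (o2 zc zl)
open Cfsg.Agent.ZN.ChoiceSit (Syl)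
open Cfsg.Agent.MinSimple.VModule (o2_le o2_isPGroup le_normalizer_o2 le_o2)
open Cfsg.Agent.Omega.S5.Def Cfsg.Agent.Omega.S5.Syl
open Cfsg.Agent.Omega.NSix.Base Cfsg.Agent.Omega.NSix.Basic Cfsg.Agent.Omega.NSix.Engine
open Cfsg.Agent.Omega.NSix.CosetAct (V0 mem_V0)
open Cfsg.Agent.Omega.NSix.HTwo.LemTwo
open Cfsg.Agent.Omega.NSix.HT.Five (Q0)
open Cfsg.Agent.Omega.TTn.Di (cm cj)
open Cfsg.Agent.Omega.TTn Cfsg.Agent.Omega

universe u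

section

variable {G : Type u} [Group G] [Finite G] {m : ℕ} {S : Sylow 2 G} {V P : Subgroup G}
  {ε : (Fin (2 ^ m + 1) → ZMod 2) → G} {i j : Fin (2 ^ m + 1)}

theorem mem_Q0 {q : G} : q ∈ Q0 ε i j ↔ q ∈ o2 (NN ε i j) ∧ q ∈ KK ε := Iff.rfl

/-- `O₂(N)` is normalised by `N` -/
theorem o2_norm {g q : G} (hg : g ∈ NN ε i j) (hq : q ∈ o2 (NN ε i j)) : g * q * g⁻¹ ∈ o2 (NN ε i j) :=
  (mem_normalizer_iff.1 (le_normalizer_o2 (NN ε i j) hg) q).1 hq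

variable (h : In S V P ε i j)
include h

/-- `L` acts on `C_G(V)` -/
theorem KK_norm {g x : G} (hg : g ∈ normalizer (V : Set G)) (hx : x ∈ KK ε) : g * x * g⁻¹ ∈ KK ε := by
  obtain ⟨σ, hσ⟩ := h.evL.perm g hg
  exact Fr.KK_conj hσ hx

/-- `L ∩ N` fixes `λ` -/
theorem Q0_norm {g q : G} (hgN : g ∈ NN ε i j) (hg : g ∈ normalizer (V : Set G)) (hq : q ∈ Q0 ε i j) :
    g * q * g⁻¹ ∈ Q0 ε i j := ⟨o2_norm hgN hq.1, KK_norm h hg hq.2⟩

theorem L_fix {g : G} (hgN : g ∈ NN ε i j) (hg : g ∈ normalizer (V : Set G)) :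
    g ∈ normalizer (Q0 ε i j : Set G) :=
  DiCoreAbs.mem_norm_of fun _ hq => Q0_norm h hgN hg hq

/-- **LEMMA N** -/
theorem mem_norm {g : G} (hg : g ∈ NN ε i j) (hX : ∀ x ∈ XX ε i j, g⁻¹ * x * g ∈ normalizer (V : Set G)) :
    g ∈ normalizer (V : Set G) := by
  refine h.cut ⟨hg, lem2 h.hyp h.evL h.ij h.one h.cut hg fun x hx => h.L_norm ⟨hX x hx, ?_⟩⟩
  have h1 : g⁻¹ * x * g ∈ NN ε i j := mul_mem (mul_mem (inv_mem hg) (KK_le_NN i j (XX_le_KK h.hyp hx))) hg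
  exact h1

/-- LEMMA N for subgroups: `X₀ ≤ A`, `A^g ≤ L` -/
theorem mem_of_le {A : Subgroup G} (hXA : XX ε i j ≤ A) {g : G} (hg : g ∈ NN ε i j)
    (hA : ∀ x ∈ A, g⁻¹ * x * g ∈ normalizer (V : Set G)) : g ∈ normalizer (V : Set G) :=
  mem_norm h hg fun x hx => hA x (hXA hx)

/-- `X₀ ≤ O₂(C_G(V)) ≤ T` -/
theorem XX_le_syl {D T : Subgroup G} (hD : D ≤ V) (hT : Syl T (centralizer (D : Set G) ⊓ normalizer (V : Set G))) :
    XX ε i j ≤ T := by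
  refine le_trans ?_ (ZN.ChoiceSit.o2_le_syl hT)
  refine (XX_le_o2 h.hyp).trans (le_o2 ?_ (o2_isPGroup _) ?_)
  · refine (o2_le _).trans fun x hx => ⟨?_, ?_⟩
    · rw [KK_eq h.hyp] at hx
      exact centralizer_le hD hx
    · rw [KK_eq h.hyp] at hx
      exact (Subgroup.centralizer_le_normalizer (V : Set G)) hx
  · intro g hg
    refine DiCoreAbs.mem_norm_of fun x hx => Zero.o2_conj (fun x hx => KK_norm h hg.2 hx) (fun x hx => ?_) hx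
    have h1 := KK_norm h (inv_mem hg.2) hx
    rwa [inv_inv] at h1

theorem centralizer_le_NN {D : Subgroup G} (hr : rr ε i j ∈ D) : centralizer (D : Set G) ≤ NN ε i j :=
  fun _ hx => mem_NN.2 ((mem_centralizer_iff.1 hx _ hr).symm)

/-- `N_{C_G(D)}(T) ≤ L` -/
theorem norm_syl {D T : Subgroup G} (hD : D ≤ V) (hr : rr ε i j ∈ D)
    (hT : Syl T (centralizer (D : Set G) ⊓ normalizer (V : Set G))) :
    centralizer (D : Set G) ⊓ normalizer (T : Set G) ≤ normalizer (V : Set G) := by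
  rintro g ⟨hg, hgT⟩
  refine mem_of_le h (XX_le_syl h hD hT) (centralizer_le_NN h hr hg) fun x hx => ?_
  have h1 := (mem_normalizer_iff.1 (inv_mem hgT) x).1 hx
  rw [inv_inv] at h1
  exact (hT.1 h1).2

/-- **`T` is a Sylow 2-subgroup of `C_G(D)`** -/
theorem syl_D {D T : Subgroup G} (hD : D ≤ V) (hr : rr ε i j ∈ D)
    (hT : Syl T (centralizer (D : Set G) ⊓ normalizer (V : Set G))) : Syl T (centralizer (D : Set G)) := by
  refine ⟨hT.1.trans inf_le_left, hT.2.1, fun R hRN hR hTR => ?_⟩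
  refine (ZN.ChoiceNse.eq_of_normalizer_inf_le hR hTR ?_).symm
  have h1 := hT.2.2 (normalizer (T : Set G) ⊓ R) (fun g hg => ⟨hRN hg.2, norm_syl h hD hr hT ⟨hRN hg.2, hg.1⟩⟩)
    (hR.to_le inf_le_right) (le_inf le_normalizer hTR)
  exact h1.le

/-- **(FUSION)** -/
theorem fusion {x : G} (hx : x ∈ NN ε i j) :
    ∃ c ∈ centralizer ((V ⊓ V.map (MulAut.conj x).toMonoidHom : Subgroup G) : Set G),
      c⁻¹ * x ∈ normalizer (V : Set G) := by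
  set D : Subgroup G := V ⊓ V.map (MulAut.conj x).toMonoidHom with hDd
  set D' : Subgroup G := D.map (MulAut.conj x⁻¹).toMonoidHom with hD'd
  have hr : rr ε i j ∈ D := by
    refine ⟨rr_mem h.hyp.ev i j, rr ε i j, rr_mem h.hyp.ev i j, ?_⟩
    exact mem_NN'.1 hx
  have hr' : rr ε i j ∈ D' := by
    refine ⟨rr ε i j, hr, ?_⟩
    exact mem_NN'.1 (inv_mem hx)
  have hD' : D' ≤ V := by
    rintro _ ⟨_, ⟨-, v, hv, rfl⟩, rfl⟩
    change x⁻¹ * (x * v * x⁻¹) * x⁻¹⁻¹ ∈ V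
    have h1 : x⁻¹ * (x * v * x⁻¹) * x⁻¹⁻¹ = v := by group
    rw [h1]; exact hv
  obtain ⟨T, hT, -⟩ := ZN.ChoiceSit.exists_syl (T := ⊥)
    (X := centralizer (D : Set G) ⊓ normalizer (V : Set G)) IsPGroup.of_bot bot_le
  obtain ⟨T', hT', -⟩ := ZN.ChoiceSit.exists_syl (T := ⊥)
    (X := centralizer (D' : Set G) ⊓ normalizer (V : Set G)) IsPGroup.of_bot bot_le
  have e1 := syl_D h inf_le_left hr hT
  have e2 := syl_D h hD' hr' hT'
  have hcen : ∀ c, c ∈ centralizer (D' : Set G) ↔ x * c * x⁻¹ ∈ centralizer (D : Set G) := by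
    intro c
    rw [mem_centralizer_iff, mem_centralizer_iff]
    constructor
    · intro hc d hd
      have h1 := hc (x⁻¹ * d * x) ⟨d, hd, by change x⁻¹ * d * x⁻¹⁻¹ = _; rw [inv_inv]⟩
      calc d * (x * c * x⁻¹) = x * (x⁻¹ * d * x * c) * x⁻¹ := by group
        _ = x * (c * (x⁻¹ * d * x)) * x⁻¹ := by rw [h1]
        _ = _ := by group
    · rintro hc _ ⟨d, hd, rfl⟩
      change x⁻¹ * d * x⁻¹⁻¹ * c = c * (x⁻¹ * d * x⁻¹⁻¹)
      have h1 := hc d hd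
      calc x⁻¹ * d * x⁻¹⁻¹ * c = x⁻¹ * (d * (x * c * x⁻¹)) * x := by group
        _ = x⁻¹ * ((x * c * x⁻¹) * d) * x := by rw [h1]
        _ = _ := by group
  have e3 : Syl (T'.map (MulAut.conj x).toMonoidHom) (centralizer (D : Set G)) := by
    refine ⟨?_, e2.2.1.map _, fun R hR hR2 hTR => ?_⟩
    · rintro _ ⟨t, ht, rfl⟩
      exact (hcen t).1 (e2.1 ht)
    · have h1 := e2.2.2 (R.map (MulAut.conj x⁻¹).toMonoidHom) (by
        rintro _ ⟨t, ht, rfl⟩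
        refine (hcen _).2 ?_
        have h2 : x * (MulAut.conj x⁻¹).toMonoidHom t * x⁻¹ = t := by
          change x * (x⁻¹ * t * x⁻¹⁻¹) * x⁻¹ = t
          group
        rw [h2]
        exact hR ht) (hR2.map _) (by
        intro t ht
        refine ⟨x * t * x⁻¹, hTR ⟨t, ht, rfl⟩, ?_⟩
        change x⁻¹ * (x * t * x⁻¹) * x⁻¹⁻¹ = t
        group)
      rw [← h1]
      ext r
      constructor
      · intro hr
        refine ⟨x⁻¹ * r * x⁻¹⁻¹, ⟨r, hr, rfl⟩, ?_⟩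
        change x * (x⁻¹ * r * x⁻¹⁻¹) * x⁻¹ = r
        group
      · rintro ⟨_, ⟨r', hr', rfl⟩, rfl⟩
        change x * (x⁻¹ * r' * x⁻¹⁻¹) * x⁻¹ ∈ R
        have h2 : x * (x⁻¹ * r' * x⁻¹⁻¹) * x⁻¹ = r' := by group
        rw [h2]; exact hr'
  obtain ⟨c, hc, hcT⟩ := ZN.ChoiceSit.syl_conj e3 e1
  refine ⟨c⁻¹, inv_mem hc, ?_⟩
  rw [inv_inv]
  refine mem_of_le h (XX_le_syl h inf_le_left hT) (mul_mem (centralizer_le_NN h hr hc) hx) fun y hy => ?_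
  rw [← hcT] at hy
  obtain ⟨_, ⟨t, ht, rfl⟩, rfl⟩ := hy
  have h1 : (c * x)⁻¹ * (MulAut.conj c).toMonoidHom ((MulAut.conj x).toMonoidHom t) * (c * x) = t := by
    change (c * x)⁻¹ * (c * (x * t * x⁻¹) * c⁻¹) * (c * x) = t
    group
  rw [h1]
  exact (hT'.1 ht).2

/-- **(2)** -/
theorem two {x : G} (hx : x ∈ NN ε i j) (hV : ∀ v ∈ V, ∀ v' ∈ V, v * (x * v' * x⁻¹) = x * v' * x⁻¹ * v)
    {k : Fin (2 ^ m + 1)} (hki : k ≠ i) (hkj : k ≠ j) {a q : G} (ha : a ∈ UU ε i k) (hq : q ∈ Q0 ε i j) :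
    ∀ v ∈ V, a⁻¹ * (q * a * q⁻¹) * (x * v * x⁻¹) = x * v * x⁻¹ * (a⁻¹ * (q * a * q⁻¹)) := by
  intro v hv
  obtain ⟨w, F⟩ := h.hyp.exists_fr
  obtain ⟨-, h2⟩ := F.uq h.ij hki hkj ha hq.1 hq.2
  unfold TTn.Di.cj at h2
  -- `U_ij` centralises `V^x`
  have h3 : ∀ y ∈ UU ε i j, y * (x * v * x⁻¹) = x * v * x⁻¹ * y := by
    intro y hy
    have h4 := UU_normal (inv_mem hx) hy
    rw [inv_inv] at h4
    have h5 := mem_KK'.1 (h.hyp.UK h.ij h4)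
    obtain ⟨f, rfl⟩ := h.hyp.ev.surj v hv
    calc y * (x * ε f * x⁻¹) = x * (x⁻¹ * y * x * ε f) * x⁻¹ := by group
      _ = x * (ε f * (x⁻¹ * y * x)) * x⁻¹ := by rw [h5]
      _ = _ := by group
  have h6 := hV (zz ε j) (zz_mem h.hyp.ev j) v hv
  rcases h2 with h2 | h2
  · exact h3 _ h2
  · have h7 := h3 _ h2
    have h8 : a⁻¹ * (q * a * q⁻¹) = a⁻¹ * (q * a * q⁻¹) * zz ε j * (zz ε j)⁻¹ := by group
    have h9 : (zz ε j)⁻¹ * (x * v * x⁻¹) = x * v * x⁻¹ * (zz ε j)⁻¹ := by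
      rw [zz_inv h.hyp.ev]; exact h6
    rw [h8, mul_assoc _ (zz ε j)⁻¹, h9, ← mul_assoc, h7, mul_assoc]

end

end Cfsg.Agent.Omega.NSix.HT
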