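import Cfsg.Agent.Omega.NSix.HT.Four
import Cfsg.Agent.Omega.NSix.HT.Key
import Cfsg.Agent.Omega.NSix.HT.FixEnd
import Cfsg.Agent.Omega.NSix.NoBlk.Main
import Cfsg.Agent.Omega.NSix.HTwo.StepC
import Cfsg.Agent.Omega.NSix.HT.EightIn
import Cfsg.Agent.Omega.FFBr.Final

/-!
# OMEGA N6: (H2) without (ML) and THEOREM SN: #18920 (helper605), the assembly

`Pos S P ε`, `S` induces `(i j)`, `N = C_G(r_ij)`, `T₁ = S ∩ N`, `λ : O₂(N) → F₂` with kernel `Q0 ε i j`.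

* `key_of` : (3) = `Four.Key`; `key_five` : (3) for `D = ⟨r_ij⟩`; `bl` : THEOREM BL* (case `J(S) ≤ O₂(P)`);
* `pos_false` : `Pos` is contradictory; `symH2 : SymH2 K` = (H2) of N6; `symBig : S5.Main.SymBig K` (leaf II.c),
  for every class `K`, no hypotheses. FF theorem: `FFBr.ffthm`; case `J(S) ≰ O₂(P)`: 546's `EightIn.eight`.
-/

set_option autoImplicit false
set_option linter.unusedSectionVars false

namespace Cfsg.Agent.Omega.NSix.HT.Main

open Subgroup Cfsg Cfsg.Agent.Omega.MinPar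
open Cfsg.Agent.ZN (o2 zc zl jj)
open Cfsg.Agent.ZN.ChoiceSit (Syl)
open Cfsg.Agent.MinSimple.VModule (o2_le o2_isPGroup le_normalizer_o2 le_o2 mem_zc oddGen)
open Cfsg.Agent.Omega.S5.Def Cfsg.Agent.Omega.S5.Syl
open Cfsg.Agent.Omega.NSix.Base Cfsg.Agent.Omega.NSix.Basic Cfsg.Agent.Omega.NSix.Engine
open Cfsg.Agent.Omega.NSix.CosetAct (V0 mem_V0)
open Cfsg.Agent.Omega.NSix.HTwo.LemTwo (XX In V0_le V0_le_UU)
open Cfsg.Agent.Omega.NSix.HTwo.Main (Pos)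
open Cfsg.Agent.Omega.NSix.HTwo.StepC (sy_of nc_of in_of)
open Cfsg.Agent.Omega.NSix.HT.Five (Q0)
open Cfsg.Agent.Omega.Frame (Ctx Cls)
open Cfsg.Agent.MinSimple.MinParabolic (IsMinPar)
open Cfsg.Agent.Omega.S5.SymBig (H2 Pr SymH2)
open Cfsg.Agent.Omega

universe u

section

variable {G : Type u} [Group G] [Finite G] {m : ℕ} {S : Sylow 2 G} {V P : Subgroup G}
  {ε : (Fin (2 ^ m + 1) → ZMod 2) → G} {i j : Fin (2 ^ m + 1)}

/-- (3) in the form used in (4) -/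
theorem key_of (h : In S V P ε i j) : Four.Key V ε i j := by
  intro D T R hD hr hT hR hRD hmv hcomm
  have hDV : D ≤ V := hD.trans (V0_le h.hyp)
  have hRN : R ≤ NN ε i j := hRD.trans (centralizer_le_NN h hr)
  obtain ⟨⟨t, ht, hto⟩, h2, h3⟩ := Key.key h.hyp h.ij h.evL h.cut hr (hD.trans V0_le_UU)
    (hT.1.trans inf_le_right) (XX_le_syl h hDV hT) (syl_D h hDV hr hT) hR hRD ((Five.mv_iff hRN).2 hmv)
    fun g hg v hv w hw => by
      have h1 := hcomm g hg 1 (one_mem _) v hv w hw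
      simpa using h1
  refine ⟨fun t ht s hs htK hsK => ?_, fun hX => hto (hX ht), h3⟩
  have h4 := h2 t⁻¹ (inv_mem ht) s⁻¹ (inv_mem hs) (fun h5 => htK (inv_mem_iff.1 h5))
    fun h5 => hsK (inv_mem_iff.1 h5)
  rwa [inv_inv] at h4

/-- (3) for `D = ⟨r_ij⟩` -/
theorem key_five (h : In S V P ε i j) {R : Subgroup G} (hR : IsMinPar ((S : Subgroup G) ⊓ NN ε i j) R)
    (hRN : R ≤ NN ε i j) (hmv : ¬ R ≤ normalizer (Q0 ε i j : Set G))
    (hcomm : ∀ g ∈ R, ∀ g' ∈ R, ∀ v ∈ V, ∀ w ∈ V,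
      g * v * g⁻¹ * (g' * w * g'⁻¹) = g' * w * g'⁻¹ * (g * v * g⁻¹)) :
    ∀ v ∈ V, (∀ t ∈ (S : Subgroup G) ⊓ NN ε i j, t * v = v * t) → ∀ r ∈ R, r * v = v * r := by
  have hC : centralizer ((zpowers (rr ε i j) : Subgroup G) : Set G) = NN ε i j := by
    rw [zpowers_eq_closure, centralizer_closure]
    rfl
  have h1 := Key.key h.hyp h.ij h.evL h.cut (D := zpowers (rr ε i j)) (T := (S : Subgroup G) ⊓ NN ε i j)
    (mem_zpowers _) (zpowers_le.2 (h.hyp.rr_mem_U h.ij)) (inf_le_left.trans h.SL) h.XX_le_T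
    (by rw [hC]; exact h.syl) hR (by rw [hC]; exact hRN) ((Five.mv_iff hRN).2 hmv)
    fun g hg v hv w hw => by
      have h1 := hcomm g hg 1 (one_mem _) v hv w hw
      simpa using h1
  exact h1.2.2

/-- THEOREM BL* -/
theorem bl (hFF : FFThm.Stmt.{u}) (hG : IsCharacteristicTwoType G) (hP : IsParS (S : Subgroup G) P)
    (h : In S (zl (S : Subgroup G) P) P ε i j) (hJ : jj (S : Subgroup G) ≤ o2 P) {R : Subgroup G}
    (hR : IsMinPar ((S : Subgroup G) ⊓ NN ε i j) R) (hRN : R ≤ NN ε i j)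
    (hJR : ¬ jj (S : Subgroup G) ≤ o2 R) : R ≤ centralizer ({zz ε 0} : Set G) := by
  set T := (S : Subgroup G) ⊓ NN ε i j with hTdef
  have hTR : T ≤ R := hR.le
  have hT : Syl T R := by
    obtain ⟨h1, h2, h3⟩ := h.syl
    exact ⟨hTR, h2, fun Q hQR hQ hTQ => h3 Q (hQR.trans hRN) hQ hTQ⟩
  have hcN : NN ε i j ⊓ centralizer (o2 (NN ε i j) : Set G) ≤ o2 (NN ε i j) :=
    MinSimple.Basic.char2_centralizer hG (by rw [pow_two]; exact rr_sq h.hyp.ev i j)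
      (rr_ne_one h.hyp.ev h.three h.ij)
  have hO : OmegaOne.Hyp (zl (S : Subgroup G) P) P S ε := by
    refine ⟨h.hyp.ev, hP.le, MinSimple.VModule.zc_le_zl _ _, h.hyp.pair, h.hyp.le, ?_⟩
    obtain ⟨a, b, hab, g, hg, -, hgV⟩ := h.hyp.mov
    exact ⟨a, b, hab, g, hg, hgV⟩
  have hinf := hP.inf_centralizer S hG
  have hQT : o2 P ≤ T := by
    intro q hq
    have h1 : q ∈ (S : Subgroup G) ⊓ centralizer (zl (S : Subgroup G) P : Set G) := by rw [hinf]; exact hq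
    exact ⟨h1.1, mem_NN.2 (mem_centralizer_iff.1 h1.2 _ (rr_mem h.hyp.ev i j)).symm⟩
  have hz : ∀ s ∈ (S : Subgroup G), s * zz ε 0 = zz ε 0 * s := by
    intro t ht
    obtain ⟨σ, hσ⟩ := h.hyp.ev.perm t (h.SP ht)
    have h1 := zz_conj hσ 0
    rw [h.fix0 t ht σ hσ] at h1
    exact mul_inv_eq_iff_eq_mul.1 h1
  have h1 : zc T ≤ centralizer (oddGen R : Set G) :=
    NoBlk.Main.cen_zc hFF (NoBlk.Main.dat_par hG hP h.hyp.ev (OmegaOne.zc_o2_par hG h.hyp.n5 hP hO) hJ)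
      (by have := h.hm; omega) hQT hT hR
      (HTwo.StepFour.char2_of hcN hRN (h.o2_le_T.trans hTR)) (rr_mem h.hyp.ev i j)
      (rr_ne_one h.hyp.ev h.three h.ij) hRN hJR
  have h2 : zz ε 0 ∈ zc T := HTwo.StepFour.zz_mem_zc hG hP h.hyp hz
  have h3 : oddGen R ⊔ T = R := TTn.DiCoreAbs.oddGen_sup hTR fun h4 => h.not_dvd (by
    rw [← relIndex_mul_relIndex _ R (NN ε i j) hTR hRN]
    exact h4.mul_right _)
  rw [← h3]
  refine sup_le (fun x hx => ?_) fun t ht => mem_centralizer_singleton_iff.2 (hz t ht.1)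
  exact mem_centralizer_singleton_iff.2 (mem_centralizer_iff.1 (h1 h2) x hx)

/-- `V ≤ Z(O₂(C_G(z_k)))`: the `C_G(z_k)`-conjugates of `V` commute -/
theorem comm_zz (h : Pos S P ε) (k : Fin (2 ^ m + 1)) {g g' : G} (hg : g ∈ centralizer ({zz ε k} : Set G))
    (hg' : g' ∈ centralizer ({zz ε k} : Set G)) : ∀ v ∈ zl (S : Subgroup G) P, ∀ w ∈ zl (S : Subgroup G) P,
      g * v * g⁻¹ * (g' * w * g'⁻¹) = g' * w * g'⁻¹ * (g * v * g⁻¹) := by
  have hV : zl (S : Subgroup G) P ≤ o2 (centralizer ({zz ε k} : Set G)) ⊓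
      centralizer (o2 (centralizer ({zz ε k} : Set G)) : Set G) := by
    refine le_inf (PtCen.le_o2_cent h.c2 S h.m3 h.hyp.ev h.par.le h.fix0 k) fun v hv => ?_
    refine mem_centralizer_iff.2 fun x hx => ?_
    exact (mem_centralizer_iff.1 (Fix.o2_le_cent S h.m3 h.hyp.ev h.par.le h.fix0 k hx) v hv).symm
  intro v hv w hw
  have h1 := Fix.conj_center (mem_centralizer_singleton_iff.1 hg) (hV hv)
  have h2 := Fix.conj_center (mem_centralizer_singleton_iff.1 hg') (hV hw)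
  exact mem_centralizer_iff.1 h2.2 _ h1.1

end

section

variable {G : Type u} [Group G] [Finite G] {m : ℕ} {S : Sylow 2 G} {P : Subgroup G}
  {ε : (Fin (2 ^ m + 1) → ZMod 2) → G}

/-- **#18920**: `Pos` is contradictory -/
theorem pos_false (h : Pos S P ε) : False := by
  obtain ⟨i, j, hij, hsw⟩ := PairCen.exists_swap_mem (by have := h.m3; omega) h.hyp.ev
    (MinSimple.Basic.not_dvd_relIndex S h.par.le)
  have hI := in_of h hij hsw
  obtain ⟨R, -, h1, h2, h3⟩ := Five.five hI h.c2 h.par (fun R hR hRN hmv hc => key_five hI hR hRN hmv hc)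
    (fun hJ R hR hRN hJR => bl FFBr.ffthm h.c2 h.par hI hJ hR hRN hJR)
    (fun hJ R hR hRN hRL => EightIn.eight FFBr.ffthm h.c2 h.par h.m3 h.hyp.ev h.fix0 hij hsw hJ R hR hRN hRL)
    (Fix.not_le_normalizer h hI)
  exact h3 ((le_inf h1 h2).trans (Four.four hI h.m3 (nc_of h) (key_of hI)
    fun g hg g' hg' => comm_zz h 0 hg hg'))

/-- **(H2)** of N6 -/
theorem symH2 {K : Cls.{u}} : SymH2 K := by
  intro G _ _ hG _ S _ _ _ _ _ P₁ P₂ y m m' ε ε₂ hm hm' hl _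
  by_contra hno
  exact pos_false (HTwo.Main.Pos.of (S5.SymBig.pr_of hG.char2 (by omega) hm' hl) hm hl.pair.star₁ hno)

/-- **the leaf II.c** -/
theorem symBig {K : Cls.{u}} : S5.Main.SymBig K := S5.SymBig.symBig_of symH2

end

end Cfsg.Agent.Omega.NSix.HT.Main
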