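import Cfsg.Agent.Omega.S5.Pair
import Cfsg.Agent.Omega.FFThm

/-!
# Offenders on the even-subset module of odd degree  (helper537)

`A` an elementary abelian 2-group acting on `Fin n`, `n` odd, with `|V : C_V(A)| ≤ |A : C_A(V)|` on the module `V` of the
even subsets: all orbits have length `≤ 2`, and `A` induces every transposition on them. Orbit count:
`2^n |ker| ≤ |A| |Inv|`, `|Inv| ≤ 2^|Ω|`, `|A : ker| ≤ ∏ |ω|`, `2^n = ∏ 2^|ω| ≥ ∏ 2|ω|`.

* `comb` : the combinatorial statement;
* `side_of_off` : `Off V A`, `A ≤ P`, `EvenSet n V P ε` (`n ≥ 3` odd) implies `Side A ε`;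
* `off_all` : the field `off` of `CaseJ.Base.Hyp`.
-/

set_option autoImplicit false
set_option linter.unusedSectionVars false

namespace Cfsg.Agent.Omega.NSix.HT.OffEven

open Subgroup Cfsg
open Cfsg.Agent.Omega.S5.Def Cfsg.Agent.Omega.S5.Pair
open Cfsg.Agent.Omega.FFThm (Off)

universe u

theorem two_mul_le {k : ℕ} : 2 * k ≤ 2 ^ k ∧ (3 ≤ k → 2 * k < 2 ^ k) := by
  induction k with
  | zero => simp
  | succ k ih =>
    obtain ⟨h1, h2⟩ := ih
    rcases Nat.lt_or_ge k 3 with h3 | h3
    · interval_cases k <;> simp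
    · have h4 := h2 h3
      rw [pow_succ]
      constructor
      · omega
      · intro _; omega

section comb

variable {n : ℕ} {A : Type*} [Group A] [Finite A] (f : A →* Equiv.Perm (Fin n))

/-- the orbit relation -/
def rel : Setoid (Fin n) where
  r i j := ∃ a, f a i = j
  iseqv :=
    { refl := fun i => ⟨1, by rw [map_one]; rfl⟩
      symm := by
        rintro i j ⟨a, rfl⟩
        refine ⟨a⁻¹, ?_⟩
        rw [map_inv]
        exact (f a).symm_apply_apply i
      trans := by
        rintro i j k ⟨a, rfl⟩ ⟨b, rfl⟩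
        exact ⟨b * a, by rw [map_mul]; rfl⟩ }

/-- the orbits -/
def Om : Type := Quotient (rel f)

instance : Finite (Om f) := by unfold Om; infer_instance

/-- the orbit of a point -/
def cl (i : Fin n) : Om f := Quotient.mk (rel f) i

/-- the representative -/
noncomputable def rp (w : Om f) : Fin n := Quotient.out w

theorem cl_rp (w : Om f) : cl f (rp f w) = w := Quotient.out_eq w

theorem cl_eq {i j : Fin n} : cl f i = cl f j ↔ ∃ a, f a i = j := Quotient.eq (r := rel f)

theorem cl_act (a : A) (i : Fin n) : cl f (f a i) = cl f i := ((cl_eq f).2 ⟨a, rfl⟩).symm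

theorem exists_rp (i : Fin n) : ∃ a, f a (rp f (cl f i)) = i := (cl_eq f).1 (cl_rp f _)

/-- an orbit as a set -/
abbrev Or (w : Om f) : Type := {i : Fin n // cl f i = w}

theorem prod_pow [Fintype (Om f)] : ∏ w : Om f, 2 ^ Nat.card (Or f w) = 2 ^ n := by
  classical
  rw [Finset.prod_pow_eq_pow_sum]
  congr 1
  have h1 : Nat.card (Σ w : Om f, Or f w) = Nat.card (Fin n) := Nat.card_congr (Equiv.sigmaFiberEquiv (cl f))
  rw [Nat.card_sigma, Nat.card_fin] at h1
  exact h1

/-- the invariant functions -/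
abbrev Inv : Type := {x : Fin n → ZMod 2 // ∀ a, x ∘ (f a).symm = x}

theorem card_inv [Fintype (Om f)] : Nat.card (Inv f) ≤ 2 ^ Fintype.card (Om f) := by
  have h1 : Nat.card (Inv f) ≤ Nat.card (Om f → ZMod 2) := by
    refine Nat.card_le_card_of_injective (fun x w => x.1 (rp f w)) fun x y hxy => ?_
    apply Subtype.ext
    funext i
    obtain ⟨a, ha⟩ := exists_rp f i
    have hi : ∀ z : Inv f, z.1 i = z.1 (rp f (cl f i)) := by
      intro z
      have h1 := congrFun (z.2 a) i
      rw [Function.comp_apply] at h1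
      have e : (f a).symm i = rp f (cl f i) := by rw [Equiv.symm_apply_eq, ha]
      rw [← h1, e]
    rw [hi x, hi y]
    exact congrFun hxy (cl f i)
  refine h1.trans (le_of_eq ?_)
  rw [Nat.card_fun, Nat.card_eq_fintype_card (α := Om f)]
  simp

/-- the orbit map -/
noncomputable def om (σ : f.range) : ∀ w : Om f, Or f w := fun w =>
  ⟨σ.1 (rp f w), by
    obtain ⟨σ, a, rfl⟩ := σ
    exact (cl_act f a _).trans (cl_rp f w)⟩

theorem om_inj (hc : ∀ a b : A, a * b = b * a) : Function.Injective (om f) := by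
  rintro ⟨σ, a, rfl⟩ ⟨τ, b, rfl⟩ h1
  apply Subtype.ext
  ext i : 1
  obtain ⟨c, hcc⟩ := exists_rp f i
  have h2 : f a (rp f (cl f i)) = f b (rp f (cl f i)) := congrArg Subtype.val (congrFun h1 (cl f i))
  change f a i = f b i
  rw [← hcc]
  have h3 : ∀ d : A, f d (f c (rp f (cl f i))) = f c (f d (rp f (cl f i))) := by
    intro d
    have h4 := hc d c
    have h5 := congrArg f h4
    rw [map_mul, map_mul] at h5
    exact congrArg (fun τ : Equiv.Perm (Fin n) => τ (rp f (cl f i))) h5
  rw [hcc] at h3 ⊢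
  rw [h3 a, h3 b, h2]

theorem card_or_pos (w : Om f) : 0 < Nat.card (Or f w) := by
  have : Nonempty (Or f w) := ⟨⟨rp f w, cl_rp f w⟩⟩
  exact Nat.card_pos

/-- the two counts -/
theorem counts (hc : ∀ a b : A, a * b = b * a)
    (h : 2 ^ n * Nat.card f.ker ≤ Nat.card A * Nat.card (Inv f)) :
    (∀ w, Nat.card (Or f w) ≤ 2) ∧ Function.Surjective (om f) ∧
      2 ^ n * Nat.card f.ker = Nat.card A * Nat.card (Inv f) := by
  classical
  have : Fintype (Om f) := Fintype.ofFinite _
  have e1 : Nat.card A = Nat.card f.ker * Nat.card f.range := by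
    rw [← Subgroup.index_ker, Subgroup.card_mul_index]
  have e2 : Nat.card f.range ≤ ∏ w : Om f, Nat.card (Or f w) := by
    have := Nat.card_le_card_of_injective _ (om_inj f hc)
    rwa [Nat.card_pi] at this
  have e3 := card_inv f
  have e4 : ∏ w : Om f, 2 * Nat.card (Or f w) = 2 ^ Fintype.card (Om f) * ∏ w : Om f, Nat.card (Or f w) := by
    rw [Finset.prod_mul_distrib, Finset.prod_const, Finset.card_univ]
  have e5 : ∏ w : Om f, 2 * Nat.card (Or f w) ≤ 2 ^ n := by
    rw [← prod_pow f]
    exact Finset.prod_le_prod (fun w _ => Nat.zero_le _) fun w _ => two_mul_le.1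
  have hK : 0 < Nat.card f.ker := Nat.card_pos
  have hR : 0 < Nat.card f.range := Nat.card_pos
  have h2 : 0 < 2 ^ Fintype.card (Om f) := by positivity
  rw [e1] at h
  have h3 : 2 ^ n ≤ Nat.card f.range * Nat.card (Inv f) := by
    have h4 : Nat.card f.ker * 2 ^ n ≤ Nat.card f.ker * (Nat.card f.range * Nat.card (Inv f)) := by
      calc Nat.card f.ker * 2 ^ n = 2 ^ n * Nat.card f.ker := mul_comm _ _
        _ ≤ _ := h
        _ = _ := mul_assoc _ _ _
    exact Nat.le_of_mul_le_mul_left h4 hK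
  have h4 : Nat.card f.range * Nat.card (Inv f) ≤ 2 ^ Fintype.card (Om f) * Nat.card f.range := by
    rw [mul_comm]; exact Nat.mul_le_mul_right _ e3
  have h5 : 2 ^ Fintype.card (Om f) * Nat.card f.range ≤
      2 ^ Fintype.card (Om f) * ∏ w : Om f, Nat.card (Or f w) := Nat.mul_le_mul_left _ e2
  have h6 : ∏ w : Om f, 2 * Nat.card (Or f w) = 2 ^ n := by
    apply le_antisymm e5
    rw [e4]
    omega
  refine ⟨fun w => ?_, ?_, ?_⟩
  · by_contra hw
    push Not at hw
    have h7 : ∏ w : Om f, 2 * Nat.card (Or f w) < ∏ w : Om f, 2 ^ Nat.card (Or f w) := by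
      refine Finset.prod_lt_prod (fun w _ => ?_) (fun w _ => two_mul_le.1) ⟨w, Finset.mem_univ _, two_mul_le.2 hw⟩
      have := card_or_pos f w
      omega
    rw [prod_pow f, h6] at h7
    exact lt_irrefl _ h7
  · have h7 : Nat.card f.range = Nat.card (∀ w : Om f, Or f w) := by
      rw [Nat.card_pi]
      rw [e4] at h6
      exact Nat.eq_of_mul_eq_mul_left h2 (by omega)
    exact ((Function.Injective.bijective_of_nat_card_le (om_inj f hc) h7.ge)).2
  · rw [e1, mul_assoc, mul_comm (2 ^ n)]
    congr 1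
    rw [e4] at h6
    omega

/-- **the combinatorial statement** -/
theorem comb (hc : ∀ a b : A, a * b = b * a)
    (h : 2 ^ n * Nat.card f.ker ≤ Nat.card A * Nat.card (Inv f)) (a : A) (i : Fin n) (hi : f a i ≠ i) :
    f a (f a i) = i ∧ ∃ b, f b = Equiv.swap i (f a i) := by
  classical
  obtain ⟨h1, h2, -⟩ := counts f hc h
  -- the orbit of `i`
  have hor : ∀ j, cl f j = cl f i → j = i ∨ j = f a i := by
    intro j hj
    by_contra hcon
    rw [not_or] at hcon
    have h3 : 3 ≤ Nat.card (Or f (cl f i)) := by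
      rw [Nat.card_eq_fintype_card, Fintype.card_subtype]
      have h4 : ({i, f a i, j} : Finset (Fin n)).card = 3 :=
        Finset.card_eq_three.2 ⟨i, f a i, j, hi.symm, Ne.symm hcon.1, Ne.symm hcon.2, rfl⟩
      rw [← h4]
      refine Finset.card_le_card fun k hk => ?_
      rw [Finset.mem_filter]
      refine ⟨Finset.mem_univ _, ?_⟩
      simp only [Finset.mem_insert, Finset.mem_singleton] at hk
      rcases hk with rfl | rfl | rfl
      · rfl
      · exact cl_act f a i
      · exact hj
    have := h1 (cl f i)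
    omega
  have hfi : f a (f a i) = i := by
    rcases hor (f a (f a i)) ((cl_act f a _).trans (cl_act f a _)) with h3 | h3
    · exact h3
    · exact absurd ((f a).injective h3) hi
  refine ⟨hfi, ?_⟩
  -- the other point of the orbit
  obtain ⟨o, ho1, ho2, ho3⟩ : ∃ o, cl f o = cl f i ∧ o ≠ rp f (cl f i) ∧
      Equiv.swap i (f a i) = Equiv.swap (rp f (cl f i)) o := by
    rcases hor (rp f (cl f i)) (cl_rp f _) with h3 | h3
    · exact ⟨f a i, cl_act f a i, by rw [h3]; exact hi, by rw [h3]⟩
    · exact ⟨i, rfl, by rw [h3]; exact hi.symm, by rw [h3, Equiv.swap_comm]⟩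
  obtain ⟨⟨σ, b, hb⟩, hσ⟩ := h2 (Function.update (fun w => ⟨rp f w, cl_rp f w⟩) (cl f i) ⟨o, ho1⟩)
  refine ⟨b, ?_⟩
  have hrp : f b (rp f (cl f i)) = o := by
    have := congrArg Subtype.val (congrFun hσ (cl f i))
    rw [Function.update_self] at this
    rw [hb]
    exact this
  have hrp' : ∀ w, w ≠ cl f i → f b (rp f w) = rp f w := by
    intro w hw
    have := congrArg Subtype.val (congrFun hσ w)
    rw [Function.update_of_ne hw] at this
    rw [hb]
    exact this
  have hcomm : ∀ c d j, f c (f d j) = f d (f c j) := by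
    intro c d j
    have h5 := congrArg f (hc c d)
    rw [map_mul, map_mul] at h5
    exact congrArg (fun τ : Equiv.Perm (Fin n) => τ j) h5
  rw [ho3]
  ext j : 1
  by_cases hj : cl f j = cl f i
  · -- `j` is `rp` or `o`
    have hor2 : ∀ j, cl f j = cl f i → j = rp f (cl f i) ∨ j = o := by
      intro j hj
      by_contra hcon
      rw [not_or] at hcon
      rcases hor j hj with e1 | e1 <;> rcases hor _ ho1 with e2 | e2 <;> rcases hor _ (cl_rp f (cl f i)) with e3 | e3
      · exact hcon.2 (e1.trans e2.symm)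
      · exact hcon.2 (e1.trans e2.symm)
      · exact hcon.1 (e1.trans e3.symm)
      · exact ho2 (e2.trans e3.symm)
      · exact ho2 (e2.trans e3.symm)
      · exact hcon.1 (e1.trans e3.symm)
      · exact hcon.2 (e1.trans e2.symm)
      · exact hcon.2 (e1.trans e2.symm)
    rcases hor2 j hj with h6 | h6
    · rw [h6, hrp, Equiv.swap_apply_left]
    · rw [h6, Equiv.swap_apply_right]
      rcases hor2 (f b o) ((cl_act f b _).trans ho1) with h7 | h7
      · exact h7
      · exfalso
        exact ho2 ((f b).injective (h7.trans hrp.symm))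
  · obtain ⟨c, hcj⟩ := exists_rp f j
    have h7 : f b j = j := by
      conv_lhs => rw [← hcj]
      rw [hcomm b c, hrp' _ hj, hcj]
    rw [h7, Equiv.swap_apply_of_ne_of_ne]
    · rintro rfl
      exact hj (cl_rp f _)
    · rintro rfl
      exact hj ho1

end comb

/-! ### The module -/

section

variable {G : Type u} [Group G] [Finite G] {n : ℕ} {V P A : Subgroup G} {ε : (Fin n → ZMod 2) → G}

theorem sum_comp (x : Fin n → ZMod 2) (σ : Equiv.Perm (Fin n)) : ∑ i, (x ∘ σ.symm) i = ∑ i, x i := by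
  simp only [Function.comp_apply]
  exact Equiv.sum_comp σ.symm x

/-- `x ∘ σ⁻¹ = x + 1` is impossible for odd `n` -/
theorem ne_add_one (hn : Odd n) (x : Fin n → ZMod 2) (σ : Equiv.Perm (Fin n)) : x ∘ σ.symm ≠ x + 1 := by
  intro h1
  have h2 := sum_comp x σ
  rw [h1] at h2
  simp only [Pi.add_apply, Pi.one_apply, Finset.sum_add_distrib, Finset.sum_const, Finset.card_univ,
    Fintype.card_fin, nsmul_eq_mul, mul_one] at h2
  obtain ⟨k, rfl⟩ := hn
  have h3 : ((2 * k + 1 : ℕ) : ZMod 2) = 1 := by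
    push_cast
    have : (2 : ZMod 2) = 0 := rfl
    rw [this, zero_mul, zero_add]
  rw [h3] at h2
  exact one_ne_zero (left_eq_add.1 h2.symm)

/-- the permutation action of `A` -/
noncomputable def pf (h : EvenSet n V P ε) (hn : 3 ≤ n) (hA : A ≤ P) : A →* Equiv.Perm (Fin n) :=
  (h.hom hn).comp (Subgroup.inclusion hA)

theorem pf_acts (h : EvenSet n V P ε) (hn : 3 ≤ n) (hA : A ≤ P) (a : A) : Acts ε (a : G) (pf h hn hA a) :=
  h.acts_hom hn (Subgroup.inclusion hA a)

/-- the inequality of an offender, for the orbit count -/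
theorem ineq (h : EvenSet n V P ε) (hn : 3 ≤ n) (hodd : Odd n) (hA : A ≤ P)
    (hle : Nat.card V * Nat.card ↥(A ⊓ centralizer (V : Set G)) ≤
      Nat.card A * Nat.card ↥(V ⊓ centralizer (A : Set G))) :
    2 ^ n * Nat.card (pf h hn hA).ker ≤ Nat.card A * Nat.card (Inv (pf h hn hA)) := by
  classical
  set f := pf h hn hA with hf
  have hfa : ∀ a : A, Acts ε (a : G) (f a) := pf_acts h hn hA
  have i0 : Fin n := ⟨0, by omega⟩
  -- `2^n ≤ 2 |V|`
  have h1 : 2 ^ n ≤ 2 * Nat.card V := by
    have h2 : Nat.card (Fin n → ZMod 2) ≤ Nat.card (ZMod 2 × V) := by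
      refine Nat.card_le_card_of_injective (fun x => (x i0, ⟨ε x, h.mem x⟩)) fun x y hxy => ?_
      have e1 : x i0 = y i0 := congrArg Prod.fst hxy
      have e2 : ε x = ε y := congrArg (fun p => (p.2 : G)) hxy
      rcases h.eq_iff.1 e2 with e3 | e3
      · exact e3
      · exfalso
        rw [e3, Pi.add_apply, Pi.one_apply] at e1
        exact one_ne_zero (left_eq_add.1 e1.symm)
    rw [Nat.card_prod, Nat.card_fun, Nat.card_eq_fintype_card (α := ZMod 2), ZMod.card, Nat.card_fin] at h2
    exact h2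
  -- the kernel
  have h3 : Nat.card f.ker ≤ Nat.card ↥(A ⊓ centralizer (V : Set G)) := by
    refine Nat.card_le_card_of_injective (fun a => ⟨(a.1 : G), a.1.2, ?_⟩) fun a b hab => ?_
    · have h4 := hfa a.1
      rw [a.2] at h4
      exact h.acts_one_iff.1 h4
    · exact Subtype.ext (Subtype.ext (congrArg (fun z : ↥(A ⊓ centralizer (V : Set G)) => (z : G)) hab))
  -- the fixed points
  have hinv : ∀ v ∈ V ⊓ centralizer (A : Set G), ∀ x, ε x = v → ∀ a : A, x ∘ (f a).symm = x := by
    intro v hv x hx a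
    have h4 := hfa a x
    rw [hx, (mem_centralizer_iff.1 hv.2 a a.2), mul_inv_cancel_right, ← hx] at h4
    rcases h.eq_iff.1 h4.symm with h5 | h5
    · exact h5
    · exact absurd h5 (ne_add_one hodd x (f a))
  have hch : ∀ v : ↥(V ⊓ centralizer (A : Set G)), ∃ x, ε x = v := fun v => h.surj v v.2.1
  choose x hx using hch
  have h4 : 2 * Nat.card ↥(V ⊓ centralizer (A : Set G)) ≤ Nat.card (Inv f) := by
    have h5 : Nat.card (ZMod 2 × ↥(V ⊓ centralizer (A : Set G))) ≤ Nat.card (Inv f) := by
      refine Nat.card_le_card_of_injective (fun p => (⟨x p.2 + fun _ => p.1, fun a => ?_⟩ : Inv f)) ?_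
      · have h6 := hinv _ p.2.2 _ (hx p.2) a
        have h7 : (x p.2 + fun _ => p.1) ∘ (f a).symm = x p.2 ∘ (f a).symm + fun _ => p.1 := rfl
        rw [h7, h6]
      · rintro ⟨c, v⟩ ⟨c', v'⟩ hcv
        have e1 : (x v + fun _ => c) = x v' + fun _ => c' := congrArg Subtype.val hcv
        have hcc : ∀ c : ZMod 2, ε (fun _ => c) = 1 := by
          intro c
          rw [h.ker]
          have : c = 0 ∨ c = 1 := by revert c; decide
          rcases this with rfl | rfl
          · left; rfl
          · right; rfl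
        have e2 : (v : G) = v' := by
          have := congrArg ε e1
          rw [h.add, h.add, hcc, hcc, mul_one, mul_one, hx, hx] at this
          exact this
        have e3 : v = v' := Subtype.ext e2
        subst e3
        have e4 := congrFun (add_left_cancel e1) i0
        exact Prod.ext e4 rfl
    rw [Nat.card_prod, Nat.card_eq_fintype_card (α := ZMod 2), ZMod.card] at h5
    exact h5
  calc 2 ^ n * Nat.card f.ker ≤ 2 * Nat.card V * Nat.card ↥(A ⊓ centralizer (V : Set G)) :=
        Nat.mul_le_mul h1 h3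
    _ = 2 * (Nat.card V * Nat.card ↥(A ⊓ centralizer (V : Set G))) := by ring
    _ ≤ 2 * (Nat.card A * Nat.card ↥(V ⊓ centralizer (A : Set G))) := Nat.mul_le_mul_left _ hle
    _ = Nat.card A * (2 * Nat.card ↥(V ⊓ centralizer (A : Set G))) := by ring
    _ ≤ _ := Nat.mul_le_mul_left _ h4

/-- **Offenders on the even-subset module of odd degree.** -/
theorem side_of_off (h : EvenSet n V P ε) (hn : 3 ≤ n) (hodd : Odd n) (hA : A ≤ P) (ho : Off V A) :
    Side A ε := by
  have hc : ∀ a b : A, a * b = b * a := fun a b =>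
    Subtype.ext ((PLocal.ThompsonJ.isElementaryAbelian_iff.1 ho.elem).1 a a.2 b b.2)
  have key := comb (pf h hn hA) hc (ineq h hn hodd hA ho.le)
  intro a ha
  refine ⟨pf h hn hA ⟨a, ha⟩, pf_acts h hn hA ⟨a, ha⟩, fun i hi => ?_⟩
  obtain ⟨h1, b, hb⟩ := key ⟨a, ha⟩ i hi
  exact ⟨h1, b, b.2, hb ▸ pf_acts h hn hA b⟩

/-- the field `off` of `CaseJ.Base.Hyp` and the hypothesis of `FivePlug.five` -/
theorem off_all {m : ℕ} {S : Subgroup G} {V P : Subgroup G} {ε : (Fin (2 ^ m + 1) → ZMod 2) → G} (hm : 1 ≤ m)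
    (h : EvenSet (2 ^ m + 1) V P ε) (hSP : S ≤ P) :
    ∀ A : Subgroup G, A ≤ S → Off V A → Side A ε := by
  intro A hA ho
  have h2 : 2 ^ 1 ≤ 2 ^ m := Nat.pow_le_pow_right (by norm_num) hm
  exact side_of_off h (by omega) (Even.add_one (Nat.even_pow.mpr ⟨even_two, by omega⟩)) (hA.trans hSP) ho

end

end Cfsg.Agent.Omega.NSix.HT.OffEven
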